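import Cfsg.Agent.Lib.OmegaPres.Model

/-!
The block subgroup `SL 2 × SL (n - 2)` and the conjugation by the monomial element.
-/

set_option autoImplicit false

namespace Cfsg.Agent.OmegaPres

open Matrix SL2Presentation CurtisTits
open scoped MatrixGroups

variable {F : Type*} [Field F] {m : ℕ}

/-- The indices of the two blocks. -/
def blE (m : ℕ) : Fin 2 ⊕ Fin (m + 2) ≃ Fin (m + 4) :=
  finSumFinEquiv.trans (finCongr (by omega))

theorem blE_inl (i : Fin 2) : (blE m (.inl i)).val = i.val := by simp [blE]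

theorem blE_inr (i : Fin (m + 2)) : (blE m (.inr i)).val = i.val + 2 := by simp [blE]

/-- The two blocks inside `SL n`. -/
def bl : SL(2, F) × SpecialLinearGroup (Fin (m + 2)) F →* SpecialLinearGroup (Fin (m + 4)) F where
  toFun g := ⟨(fromBlocks g.1.1 0 0 g.2.1).submatrix (blE m).symm (blE m).symm, by
    rw [det_submatrix_equiv_self, det_fromBlocks_zero₂₁, g.1.2, g.2.2, one_mul]⟩
  map_one' := by
    apply Subtype.ext
    simp [fromBlocks_one]
  map_mul' g h := by
    apply Subtype.ext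
    show _ = (fromBlocks g.1.1 0 0 g.2.1).submatrix _ _ * (fromBlocks h.1.1 0 0 h.2.1).submatrix _ _
    rw [submatrix_mul_equiv, fromBlocks_multiply]
    simp

theorem blE_ne_inl {i j : Fin 2} (h : i ≠ j) : blE m (.inl i) ≠ blE m (.inl j) :=
  fun e => h (Sum.inl_injective ((blE m).injective e))

theorem blE_ne_inr {i j : Fin (m + 2)} (h : i ≠ j) : blE m (.inr i) ≠ blE m (.inr j) :=
  fun e => h (Sum.inr_injective ((blE m).injective e))

theorem bl_inl {i j : Fin 2} (h : i ≠ j) (t : F) :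
    bl (SpecialLinearGroup.transvection h t, (1 : SpecialLinearGroup (Fin (m + 2)) F)) =
      SpecialLinearGroup.transvection (blE_ne_inl h) t := by
  refine Subtype.ext (Matrix.ext fun r s => ?_)
  obtain ⟨r, rfl⟩ := (blE m).surjective r
  obtain ⟨s, rfl⟩ := (blE m).surjective s
  show (fromBlocks (SpecialLinearGroup.transvection h t).1 0 0 1).submatrix _ _ (blE m r) (blE m s) = _
  rw [submatrix_apply, Equiv.symm_apply_apply, Equiv.symm_apply_apply, SpecialLinearGroup.transvection_coe,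
    SpecialLinearGroup.transvection_coe]
  rcases r with r | r <;> rcases s with s | s <;> simp [Matrix.one_apply, Matrix.single_apply]

theorem bl_inr {i j : Fin (m + 2)} (h : i ≠ j) (t : F) :
    bl ((1 : SL(2, F)), SpecialLinearGroup.transvection h t) =
      SpecialLinearGroup.transvection (blE_ne_inr h) t := by
  refine Subtype.ext (Matrix.ext fun r s => ?_)
  obtain ⟨r, rfl⟩ := (blE m).surjective r
  obtain ⟨s, rfl⟩ := (blE m).surjective s
  show (fromBlocks 1 0 0 (SpecialLinearGroup.transvection h t).1).submatrix _ _ (blE m r) (blE m s) = _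
  rw [submatrix_apply, Equiv.symm_apply_apply, Equiv.symm_apply_apply, SpecialLinearGroup.transvection_coe,
    SpecialLinearGroup.transvection_coe]
  rcases r with r | r <;> rcases s with s | s <;> simp [Matrix.one_apply, Matrix.single_apply]

/-- The Weyl element in `SL n`. -/
def wSL {n : ℕ} {i j : Fin n} (h : i ≠ j) (t : F) : SpecialLinearGroup (Fin n) F :=
  SpecialLinearGroup.transvection h t * SpecialLinearGroup.transvection h.symm (-t⁻¹) *
    SpecialLinearGroup.transvection h t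

variable {Q : Type*} [Group Q] (φ : SpecialLinearGroup (Fin (m + 4)) F →* Q)

theorem map_wSL {i j : Fin (m + 4)} (h : i ≠ j) (t : F) : φ (wSL h t) = (ofHom φ).w i j t := by
  simp only [wSL, map_mul, Rels.w, ofHom_x _ h, ofHom_x _ h.symm]

/-- The monomial element. -/
def mu (F : Type*) [Field F] (m : ℕ) : SpecialLinearGroup (Fin (m + 4)) F :=
  wSL (ix_ne (m := m) (k := 0) (l := 1) (hk := by omega) (hl := by omega) (by omega)) 1

/-- The three relations of the flip with the blocks. -/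
def FlipRel (u : Q) : Prop :=
  (∀ p q : Fin (m + 4), p ≠ q → 2 ≤ p.val → 2 ≤ q.val → ∀ t,
    u * (ofHom φ).x p q t * u⁻¹ = (ofHom φ).x p q t) ∧
  (∀ t, u * (ofHom φ).x (ix 0) (ix 1) t * u⁻¹ = (ofHom φ).x (ix 1) (ix 0) (-t)) ∧
  (∀ t, u * (ofHom φ).x (ix 1) (ix 0) t * u⁻¹ = (ofHom φ).x (ix 0) (ix 1) (-t))

theorem flipRel_mu : FlipRel φ (φ (mu F m)) := by
  rw [mu, map_wSL]
  have h01 : (ix 0 : Fin (m + 4)) ≠ ix 1 := ix_ne (by omega)
  have h20 : (ix 2 : Fin (m + 4)) ≠ ix 0 := ix_ne (by omega)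
  have h21 : (ix 2 : Fin (m + 4)) ≠ ix 1 := ix_ne (by omega)
  refine ⟨fun p q h hp hq t => (ofHom φ).w_fix h01 h (ne_ix (by omega)) (ne_ix (by omega)) (ne_ix (by omega))
    (ne_ix (by omega)) 1 t, fun t => ?_, fun t => w_y_one _ h01 h20 h21 t⟩
  rw [(ofHom φ).rel_of_third h01 h20 h21 1 t one_ne_zero]
  simp

theorem bl_eq_x_inl {i j : Fin 2} (h : i ≠ j) (t : F) :
    φ (bl (SpecialLinearGroup.transvection h t, (1 : SpecialLinearGroup (Fin (m + 2)) F))) =
      (ofHom φ).x (blE m (.inl i)) (blE m (.inl j)) t := by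
  rw [bl_inl, ofHom_x]

theorem bl_eq_x_inr {i j : Fin (m + 2)} (h : i ≠ j) (t : F) :
    φ (bl ((1 : SL(2, F)), SpecialLinearGroup.transvection h t)) =
      (ofHom φ).x (blE m (.inr i)) (blE m (.inr j)) t := by
  rw [bl_inr, ofHom_x]

/-- The flip acts on the blocks as the monomial element. -/
theorem blocks_of_flipRel {u : Q} (hu : FlipRel φ u) (g : SL(2, F) × SpecialLinearGroup (Fin (m + 2)) F) :
    u * φ (bl g) * u⁻¹ = φ (mu F m * bl g * (mu F m)⁻¹) := by
  set a : SL(2, F) × SpecialLinearGroup (Fin (m + 2)) F →* Q := (MulAut.conj u).toMonoidHom.comp (φ.comp bl)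
    with ha
  set b : SL(2, F) × SpecialLinearGroup (Fin (m + 2)) F →* Q :=
    (MulAut.conj (φ (mu F m))).toMonoidHom.comp (φ.comp bl) with hb
  have key : ∀ g, a g = b g := by
    obtain ⟨hC, hA, hA'⟩ := hu
    obtain ⟨mC, mA, mA'⟩ := flipRel_mu φ
    have h1 : ∀ x, a (x, 1) = b (x, 1) := by
      intro x
      refine GL.SL_induction (fun x => a (x, 1) = b (x, 1)) ?_ (fun i j h t => ?_) (fun x y hx hy => ?_) x
      · rw [← Prod.one_eq_mk, map_one, map_one]
      · simp only [ha, hb, MonoidHom.comp_apply, MulEquiv.coe_toMonoidHom, MulAut.conj_apply, bl_eq_x_inl φ h t]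
        fin_cases i <;> fin_cases j
        · exact absurd rfl h
        · rw [show blE m (.inl (⟨0, by omega⟩ : Fin 2)) = ix 0 from Fin.ext (blE_inl _),
            show blE m (.inl (⟨1, by omega⟩ : Fin 2)) = ix 1 from Fin.ext (blE_inl _), hA, mA]
        · rw [show blE m (.inl (⟨0, by omega⟩ : Fin 2)) = ix 0 from Fin.ext (blE_inl _),
            show blE m (.inl (⟨1, by omega⟩ : Fin 2)) = ix 1 from Fin.ext (blE_inl _), hA', mA']
        · exact absurd rfl h
      · have e : ((x * y, 1) : SL(2, F) × SpecialLinearGroup (Fin (m + 2)) F) = (x, 1) * (y, 1) := by simp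
        rw [e, map_mul, map_mul, hx, hy]
    have h2 : ∀ y, a (1, y) = b (1, y) := by
      intro y
      refine GL.SL_induction (fun y => a (1, y) = b (1, y)) ?_ (fun i j h t => ?_) (fun x y hx hy => ?_) y
      · rw [← Prod.one_eq_mk, map_one, map_one]
      · simp only [ha, hb, MonoidHom.comp_apply, MulEquiv.coe_toMonoidHom, MulAut.conj_apply, bl_eq_x_inr φ h t]
        rw [hC _ _ (blE_ne_inr h) (by rw [blE_inr]; omega) (by rw [blE_inr]; omega),
          mC _ _ (blE_ne_inr h) (by rw [blE_inr]; omega) (by rw [blE_inr]; omega)]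
      · have e : ((1, x * y) : SL(2, F) × SpecialLinearGroup (Fin (m + 2)) F) = (1, x) * (1, y) := by simp
        rw [e, map_mul, map_mul, hx, hy]
    rintro ⟨x, y⟩
    have e : ((x, y) : SL(2, F) × SpecialLinearGroup (Fin (m + 2)) F) = (x, 1) * (1, y) := by simp
    rw [e, map_mul, map_mul, h1, h2]
  rw [map_mul, map_mul, map_inv]
  exact key g

/-- The converse, from the conjugation of the blocks. -/
theorem flipRel_of_blocks {u : Q}
    (hu : ∀ g : SL(2, F) × SpecialLinearGroup (Fin (m + 2)) F,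
      u * φ (bl g) * u⁻¹ = φ (mu F m * bl g * (mu F m)⁻¹)) : FlipRel φ u := by
  obtain ⟨mC, mA, mA'⟩ := flipRel_mu φ
  have e0 : (blE m (.inl 0) : Fin (m + 4)) = ix 0 := Fin.ext (blE_inl _)
  have e1 : (blE m (.inl 1) : Fin (m + 4)) = ix 1 := Fin.ext (blE_inl _)
  refine ⟨fun p q h hp hq t => ?_, fun t => ?_, fun t => ?_⟩
  · obtain ⟨p' | p', rfl⟩ := (blE m).surjective p
    · rw [blE_inl] at hp; omega
    obtain ⟨q' | q', rfl⟩ := (blE m).surjective q
    · rw [blE_inl] at hq; omega
    have h' : p' ≠ q' := fun e => h (by rw [e])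
    rw [← bl_eq_x_inr φ h' t, hu, map_mul, map_mul, map_inv, bl_eq_x_inr φ h' t, mC _ _ h hp hq]
  · have h' : (0 : Fin 2) ≠ 1 := by decide
    have h := hu (SpecialLinearGroup.transvection h' t, 1)
    rw [map_mul, map_mul, map_inv, bl_eq_x_inl φ h' t, e0, e1, mA] at h
    exact h
  · have h' : (1 : Fin 2) ≠ 0 := by decide
    have h := hu (SpecialLinearGroup.transvection h' t, 1)
    rw [map_mul, map_mul, map_inv, bl_eq_x_inl φ h' t, e0, e1, mA'] at h
    exact h

/-- The flip has the three relations in the model. -/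
theorem flipRel_flip : FlipRel (emb (F := F) (n := m + 4)) (flipGL F m) := by
  have f0 : flipPerm m (.inl (ix 0)) = .inr (ix 0) := by rw [flip_inl, if_pos (Or.inl rfl)]
  have f1 : flipPerm m (.inl (ix 1)) = .inr (ix 1) := by rw [flip_inl, if_pos (Or.inr rfl)]
  have h01 : (ix 0 : Fin (m + 4)) ≠ ix 1 := ix_ne (by omega)
  refine ⟨fun p q h hp hq t => ?_, fun t => ?_, fun t => ?_⟩
  · rw [ofHom_emb_x h, flip_E (a := Sum.inl p) (b := Sum.inl q) h, flip_inl, flip_inl,
      if_neg (not_or.2 ⟨ne_ix (by omega), ne_ix (by omega)⟩), if_neg (not_or.2 ⟨ne_ix (by omega), ne_ix (by omega)⟩)]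
  · rw [ofHom_emb_x h01, ofHom_emb_x h01.symm, flip_E (a := Sum.inl (ix 0)) (b := Sum.inl (ix 1)) h01, f0, f1]
    exact DModel.E_symm (a := Sum.inl (ix 1)) (b := Sum.inl (ix 0)) h01.symm t
  · rw [ofHom_emb_x h01, ofHom_emb_x h01.symm, flip_E (a := Sum.inl (ix 1)) (b := Sum.inl (ix 0)) h01.symm, f0, f1]
    exact DModel.E_symm (a := Sum.inl (ix 0)) (b := Sum.inl (ix 1)) h01 t

end Cfsg.Agent.OmegaPres
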