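import Cfsg.Agent.Lib.OmegaPres.Torus
import Cfsg.Agent.Lib.CurtisTits.DGlue

/-!
One involution `w`, flipping the planes `0` and `1`, extends the relations of `SL n` to type `D_n`.
-/

set_option autoImplicit false

namespace Cfsg.Agent.OmegaPres

open Matrix SL2Presentation CurtisTits CurtisTits.DType

/-- An index. -/
abbrev ix {m : ℕ} (k : ℕ) (h : k < 4 := by decide) : Fin (m + 4) := ⟨k, Nat.lt_add_left m h⟩

theorem ix_ne {m k l : ℕ} {hk : k < 4} {hl : l < 4} (h : k ≠ l) : (ix k hk : Fin (m + 4)) ≠ ix l hl :=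
  fun e => h (congrArg Fin.val e)

theorem ne_ix {m k : ℕ} {hk : k < 4} {p : Fin (m + 4)} (h : p.val ≠ k) : p ≠ ix k hk :=
  fun e => h (congrArg Fin.val e)

/-- A homomorphism on `SL n` and an involution with the defining properties. -/
structure Data (F : Type*) [Field F] (m : ℕ) (Q : Type*) [Group Q] where
  φ : SpecialLinearGroup (Fin (m + 4)) F →* Q
  w : Q
  w2 : w * w = 1
  hC : ∀ p q : Fin (m + 4), p ≠ q → 2 ≤ p.val → 2 ≤ q.val → ∀ t,
    w * (ofHom φ).x p q t * w⁻¹ = (ofHom φ).x p q t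
  hA : ∀ t, w * (ofHom φ).x (ix 0) (ix 1) t * w⁻¹ = (ofHom φ).x (ix 1) (ix 0) (-t)
  hA' : ∀ t, w * (ofHom φ).x (ix 1) (ix 0) t * w⁻¹ = (ofHom φ).x (ix 0) (ix 1) (-t)
  q1 : Commute ((ofHom φ).x (ix 1) (ix 3) 1) (w * (ofHom φ).x (ix 2) (ix 0) 1 * w⁻¹)
  c1 : Commute ((ofHom φ).x (ix 2) (ix 0) 1) (w * (ofHom φ).x (ix 2) (ix 0) 1 * w⁻¹)
  hu : (ofHom φ).w (ix 2) (ix 1) 1 * w * ((ofHom φ).w (ix 2) (ix 1) 1)⁻¹ =
    (ofHom φ).w (ix 2) (ix 0) 1 * (ofHom φ).w (ix 2) (ix 0) 1 * (ofHom φ).w (ix 2) (ix 0) 1 *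
      (w * (ofHom φ).w (ix 2) (ix 0) 1 * w⁻¹)

theorem push_inv {G : Type*} [Group G] {x B Z : G} (h : x * B = Z * B * x) : x * B⁻¹ = B⁻¹ * Z⁻¹ * x :=
  calc x * B⁻¹ = B⁻¹ * Z⁻¹ * (Z * B * x) * B⁻¹ := by group
    _ = B⁻¹ * Z⁻¹ * (x * B) * B⁻¹ := by rw [h]
    _ = _ := by group

theorem conj_two {G : Type*} [Group G] (g h x : G) : g * (h * x * h⁻¹) * g⁻¹ = g * h * x * (g * h)⁻¹ := by
  group

namespace Data

variable {F : Type*} [Field F] {m : ℕ} {Q : Type*} [Group Q] (D : Data F m Q)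

/-- The relations of `SL n`. -/
def S : Rels F (m + 4) Q := ofHom D.φ

/-- Conjugation by `w`. -/
def cw : MulAut Q := MulAut.conj D.w

theorem cw_cw (g : Q) : D.cw (D.cw g) = g := by
  simp only [cw, MulAut.conj_apply]
  rw [show D.w * (D.w * g * D.w⁻¹) * D.w⁻¹ = (D.w * D.w) * g * (D.w * D.w)⁻¹ by group, D.w2]
  group

theorem comm_cw {a b : Q} (h : Commute (D.cw a) (D.cw b)) : Commute a b := by
  have := h.map D.cw
  rwa [D.cw_cw, D.cw_cw] at this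

theorem cw_C {p q : Fin (m + 4)} (h : p ≠ q) (hp : 2 ≤ p.val) (hq : 2 ≤ q.val) (t : F) :
    D.cw (D.S.x p q t) = D.S.x p q t := D.hC p q h hp hq t

theorem cw_01 (t : F) : D.cw (D.S.x (ix 0) (ix 1) t) = D.S.x (ix 1) (ix 0) (-t) := D.hA t

theorem cw_10 (t : F) : D.cw (D.S.x (ix 1) (ix 0) t) = D.S.x (ix 0) (ix 1) (-t) := D.hA' t

/-- The root `ε_2 + ε_0`. -/
def P (t : F) : Q := D.cw (D.S.x (ix 2) (ix 0) t)

/-- The root `-ε_2 - ε_0`. -/
def N (t : F) : Q := D.cw (D.S.x (ix 0) (ix 2) t)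

theorem P_add (s t : F) : D.P (s + t) = D.P s * D.P t := by
  rw [P, P, P, D.S.add (ix 2) (ix 0) (by simp [Fin.ext_iff]), map_mul]

theorem N_add (s t : F) : D.N (s + t) = D.N s * D.N t := by
  rw [N, N, N, D.S.add (ix 0) (ix 2) (by simp [Fin.ext_iff]), map_mul]

/-- The torus. -/
def tor (a b : Fˣ) : Q :=
  D.φ (hEl (ix_ne (m := m) (k := 0) (l := 1) (hk := by omega) (hl := by omega) (by omega)) a) *
    D.φ (hEl (ix_ne (m := m) (k := 2) (l := 3) (hk := by omega) (hl := by omega) (by omega)) b)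

theorem cw_tor (a b : Fˣ) : D.cw (D.tor a b) = D.tor a⁻¹ b := by
  have h01 : (ix 0 : Fin (m + 4)) ≠ ix 1 := (by simp [Fin.ext_iff])
  have h23 : (ix 2 : Fin (m + 4)) ≠ ix 3 := (by simp [Fin.ext_iff])
  have e23 : D.cw (D.φ (hEl h23 b)) = D.φ (hEl h23 b) := by
    have h := ofHom_w_mul D.φ h23 b (-1)
    rw [neg_div_neg_eq, div_one] at h
    rw [← h]
    simp only [Rels.w, map_mul]
    simp only [show ofHom D.φ = D.S from rfl, D.cw_C h23 le_rfl (by simp), D.cw_C h23.symm (by simp) le_rfl]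
  have e01 : D.cw (D.φ (hEl h01 a)) = D.φ (hEl h01 a⁻¹) := by
    have h := ofHom_w_mul D.φ h01 a (-1)
    rw [neg_div_neg_eq, div_one] at h
    have h' := ofHom_w_mul D.φ h01.symm (-a) 1
    rw [neg_neg, div_one] at h'
    rw [← h]
    simp only [Rels.w, map_mul]
    simp only [show ofHom D.φ = D.S from rfl, D.cw_01, D.cw_10, neg_neg]
    have e : hEl h01.symm a = hEl h01 a⁻¹ := by
      apply Subtype.ext
      rw [hEl_coe, hEl_coe]
      congr 1
      funext p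
      simp only [cc, Units.val_inv_eq_inv_val, inv_inv]
      split_ifs with hA hB <;> first | rfl | (exfalso; exact h01 (hB.symm.trans hA))
    rw [← e, ← h']
    simp [Rels.w, show ofHom D.φ = D.S from rfl]
  simp only [tor, map_mul, e01, e23]

theorem tor_conj (a b : Fˣ) {p q : Fin (m + 4)} (h : p ≠ q) (u : F) :
    D.tor a b * D.S.x p q u * (D.tor a b)⁻¹ = D.S.x p q
      (cc (ix 0) (ix 1) (a : F) p / cc (ix 0) (ix 1) (a : F) q *
        (cc (ix 2) (ix 3) (b : F) p / cc (ix 2) (ix 3) (b : F) q * u)) := by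
  rw [tor, ← conj_two, S, hEl_conj_x D.φ _ b h, hEl_conj_x D.φ _ a h]

theorem tor_conj_cw (a b : Fˣ) {p q : Fin (m + 4)} (h : p ≠ q) (u : F) :
    D.tor a b * D.cw (D.S.x p q u) * (D.tor a b)⁻¹ = D.cw (D.S.x p q
      (cc (ix 0) (ix 1) ((a⁻¹ : Fˣ) : F) p / cc (ix 0) (ix 1) ((a⁻¹ : Fˣ) : F) q *
        (cc (ix 2) (ix 3) (b : F) p / cc (ix 2) (ix 3) (b : F) q * u))) := by
  rw [← D.tor_conj a⁻¹ b h u, map_mul, map_mul, map_inv, D.cw_tor, inv_inv]

/-- The Weyl element of `ε_2 - ε_0`. -/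
def NN : Q := D.S.w (ix 2) (ix 0) 1

/-- The Weyl element of `ε_2 + ε_0`. -/
def Np : Q := D.cw D.NN

/-- The flip of the planes `0` and `2`. -/
def uu : Q := D.S.w (ix 2) (ix 1) 1 * D.w * (D.S.w (ix 2) (ix 1) 1)⁻¹

theorem NN_20 (t : F) : D.NN * D.S.x (ix 2) (ix 0) t * D.NN⁻¹ = D.S.x (ix 0) (ix 2) (-t) := by
  rw [NN, D.S.rel_of_third (k := ix 1) (by simp [Fin.ext_iff]) (by simp [Fin.ext_iff]) (by simp [Fin.ext_iff]) 1 t
    one_ne_zero]
  simp

theorem NN_02 (t : F) : D.NN * D.S.x (ix 0) (ix 2) t * D.NN⁻¹ = D.S.x (ix 2) (ix 0) (-t) :=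
  w_y_one D.S (k := ix 1) (by simp [Fin.ext_iff]) (by simp [Fin.ext_iff]) (by simp [Fin.ext_iff]) t

theorem Np_fix_of {p q : Fin (m + 4)} {t : F} (h : D.uu * D.S.x p q t * D.uu⁻¹ =
    D.NN * (D.NN * (D.NN * D.S.x p q t * D.NN⁻¹) * D.NN⁻¹) * D.NN⁻¹) : Commute D.Np (D.S.x p q t) := by
  have e : D.uu = D.NN * D.NN * D.NN * D.Np := D.hu
  rw [e] at h
  have h' : D.Np * D.S.x p q t * D.Np⁻¹ = D.S.x p q t := by
    refine mul_left_cancel (a := D.NN * D.NN * D.NN) (mul_right_cancel (b := (D.NN * D.NN * D.NN)⁻¹) ?_)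
    simpa [mul_assoc] using h
  exact mul_inv_eq_iff_eq_mul.1 h'

theorem Np_S13 (t : F) : Commute D.Np (D.S.x (ix 1) (ix 3) t) := by
  refine D.Np_fix_of ?_
  have hf : D.NN * D.S.x (ix 1) (ix 3) t * D.NN⁻¹ = D.S.x (ix 1) (ix 3) t :=
    D.S.w_fix (by simp [Fin.ext_iff]) (by simp [Fin.ext_iff]) (by simp [Fin.ext_iff]) (by simp [Fin.ext_iff])
      (by simp [Fin.ext_iff]) (by simp [Fin.ext_iff]) 1 t
  have e : D.S.w (ix 2) (ix 1) 1 * D.S.x (ix 2) (ix 3) (-t) * (D.S.w (ix 2) (ix 1) 1)⁻¹ = D.S.x (ix 1) (ix 3) t := by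
    rw [D.S.w_ik (by simp [Fin.ext_iff]) (by simp [Fin.ext_iff]) (by simp [Fin.ext_iff]) one_ne_zero]; simp
  have hw : D.w * D.S.x (ix 2) (ix 3) (-t) * D.w⁻¹ = D.S.x (ix 2) (ix 3) (-t) :=
    D.cw_C (by simp [Fin.ext_iff]) le_rfl (by simp) _
  rw [hf, hf, hf]
  nth_rewrite 1 [← e]
  rw [uu, show ∀ g w x : Q, g * w * g⁻¹ * (g * x * g⁻¹) * (g * w * g⁻¹)⁻¹ = g * (w * x * w⁻¹) * g⁻¹ from
    fun g w x => by group, hw, e]

theorem Np_S31 (t : F) : Commute D.Np (D.S.x (ix 3) (ix 1) t) := by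
  refine D.Np_fix_of ?_
  have hf : D.NN * D.S.x (ix 3) (ix 1) t * D.NN⁻¹ = D.S.x (ix 3) (ix 1) t :=
    D.S.w_fix (by simp [Fin.ext_iff]) (by simp [Fin.ext_iff]) (by simp [Fin.ext_iff]) (by simp [Fin.ext_iff])
      (by simp [Fin.ext_iff]) (by simp [Fin.ext_iff]) 1 t
  have e : D.S.w (ix 2) (ix 1) 1 * D.S.x (ix 3) (ix 2) (-t) * (D.S.w (ix 2) (ix 1) 1)⁻¹ = D.S.x (ix 3) (ix 1) t := by
    rw [D.S.w_ki (by simp [Fin.ext_iff]) (by simp [Fin.ext_iff]) (by simp [Fin.ext_iff]) one_ne_zero]; simp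
  have hw : D.w * D.S.x (ix 3) (ix 2) (-t) * D.w⁻¹ = D.S.x (ix 3) (ix 2) (-t) :=
    D.cw_C (by simp [Fin.ext_iff]) (by simp) le_rfl _
  rw [hf, hf, hf]
  nth_rewrite 1 [← e]
  rw [uu, show ∀ g w x : Q, g * w * g⁻¹ * (g * x * g⁻¹) * (g * w * g⁻¹)⁻¹ = g * (w * x * w⁻¹) * g⁻¹ from
    fun g w x => by group, hw, e]

theorem Np_S20 (t : F) : Commute D.Np (D.S.x (ix 2) (ix 0) t) := by
  refine D.Np_fix_of ?_
  rw [D.NN_20, D.NN_02, neg_neg, D.NN_20]
  have e : ∀ u, D.S.w (ix 2) (ix 1) 1 * D.S.x (ix 1) (ix 0) u * (D.S.w (ix 2) (ix 1) 1)⁻¹ =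
      D.S.x (ix 2) (ix 0) u := fun u => by
    rw [D.S.w_jk (by simp [Fin.ext_iff]) (by simp [Fin.ext_iff]) (by simp [Fin.ext_iff]) one_ne_zero, one_mul]
  have e' : ∀ u, D.S.w (ix 2) (ix 1) 1 * D.S.x (ix 0) (ix 1) u * (D.S.w (ix 2) (ix 1) 1)⁻¹ =
      D.S.x (ix 0) (ix 2) u := fun u => by
    rw [D.S.w_kj (by simp [Fin.ext_iff]) (by simp [Fin.ext_iff]) (by simp [Fin.ext_iff]) one_ne_zero, inv_one, one_mul]
  have hw : D.w * D.S.x (ix 1) (ix 0) t * D.w⁻¹ = D.S.x (ix 0) (ix 1) (-t) := D.cw_10 t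
  nth_rewrite 1 [← e t]
  rw [uu, show ∀ g w x : Q, g * w * g⁻¹ * (g * x * g⁻¹) * (g * w * g⁻¹)⁻¹ = g * (w * x * w⁻¹) * g⁻¹ from
    fun g w x => by group, hw, e']

theorem Np_P (t : F) : D.Np * D.P t * D.Np⁻¹ = D.N (-t) := by
  rw [Np, P, N, ← map_inv, ← map_mul, ← map_mul, D.NN_20]

theorem Np_N (t : F) : D.Np * D.N t * D.Np⁻¹ = D.P (-t) := by
  rw [Np, P, N, ← map_inv, ← map_mul, ← map_mul, D.NN_02]

variable [Finite F]

theorem S13_P (s t : F) : Commute (D.S.x (ix 1) (ix 3) s) (D.P t) := by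
  refine spread (f := D.S.x (ix 1) (ix 3)) (g := D.P) (fun s t => D.S.add _ _ (by simp [Fin.ext_iff]) s t) D.P_add
    (fun x => x) (fun x c => ⟨D.tor c (x * c), ?_, ?_⟩) D.q1 s t
  · rw [D.tor_conj _ _ (by simp [Fin.ext_iff])]; congr 1; simp [cc, Fin.ext_iff]; field_simp
  · rw [P, D.tor_conj_cw _ _ (by simp [Fin.ext_iff]), P]; congr 2; simp [cc, Fin.ext_iff]; field_simp

theorem S20_P (s t : F) : Commute (D.S.x (ix 2) (ix 0) s) (D.P t) := by
  refine spread (f := D.S.x (ix 2) (ix 0)) (g := D.P) (fun s t => D.S.add _ _ (by simp [Fin.ext_iff]) s t) D.P_add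
    (fun x => x) (fun x c => ⟨D.tor c (x * c), ?_, ?_⟩) D.c1 s t
  · rw [D.tor_conj _ _ (by simp [Fin.ext_iff])]; congr 1; simp [cc, Fin.ext_iff]; field_simp
  · rw [P, D.tor_conj_cw _ _ (by simp [Fin.ext_iff]), P]; congr 2; simp [cc, Fin.ext_iff]; field_simp

theorem S31_N (s t : F) : Commute (D.S.x (ix 3) (ix 1) s) (D.N t) := by
  set W := D.S.w (ix 0) (ix 1) 1 * D.S.w (ix 2) (ix 3) 1 with hW
  have h01 : (ix 0 : Fin (m + 4)) ≠ ix 1 := (by simp [Fin.ext_iff])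
  have h23 : (ix 2 : Fin (m + 4)) ≠ ix 3 := (by simp [Fin.ext_iff])
  have hcW : D.cw W = W := by
    rw [hW, map_mul]
    congr 1
    · conv_rhs => rw [← w_braid D.S h01 (k := ix 2) (by simp [Fin.ext_iff]) (by simp [Fin.ext_iff])]
      simp only [Rels.w, map_mul, D.cw_01, D.cw_10, inv_one, neg_neg, inv_neg]
    · simp only [Rels.w, map_mul, D.cw_C h23 le_rfl (by simp), D.cw_C h23.symm (by simp) le_rfl]
  have e13 : ∀ u, W * D.S.x (ix 1) (ix 3) u * W⁻¹ = D.S.x (ix 0) (ix 2) u := fun u => by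
    rw [hW, ← conj_two, D.S.w_kj h23 (by simp [Fin.ext_iff]) (by simp [Fin.ext_iff]) one_ne_zero,
      D.S.w_jk h01 (by simp [Fin.ext_iff]) (by simp [Fin.ext_iff]) one_ne_zero]
    simp
  have e20 : ∀ u, W * D.S.x (ix 2) (ix 0) u * W⁻¹ = D.S.x (ix 3) (ix 1) u := fun u => by
    rw [hW, ← conj_two, D.S.w_ik h23 (by simp [Fin.ext_iff]) (by simp [Fin.ext_iff]) one_ne_zero,
      D.S.w_ki h01 (by simp [Fin.ext_iff]) (by simp [Fin.ext_iff]) one_ne_zero]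
    simp
  have h := (D.S13_P t s).map (MulAut.conj W)
  simp only [MulAut.conj_apply, e13] at h
  have e : W * D.P s * W⁻¹ = D.cw (D.S.x (ix 3) (ix 1) s) := by
    rw [← e20, map_mul, map_mul, map_inv, hcW]; rfl
  rw [e] at h
  have h' := h.map D.cw
  rw [D.cw_cw] at h'
  exact h'.symm

theorem S13_N (s t : F) : Commute (D.S.x (ix 1) (ix 3) s) (D.N t) := by
  have h := (Commute.conj_iff D.Np).2 (D.S13_P s (-t))
  rwa [(D.Np_S13 s).eq, mul_inv_cancel_right, D.Np_P, neg_neg] at h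

theorem S31_P (s t : F) : Commute (D.S.x (ix 3) (ix 1) s) (D.P t) := by
  have h := (Commute.conj_iff D.Np).2 (D.S31_N s (-t))
  rwa [(D.Np_S31 s).eq, mul_inv_cancel_right, D.Np_N, neg_neg] at h

theorem S20_N (s t : F) : Commute (D.S.x (ix 2) (ix 0) s) (D.N t) := by
  have h := (Commute.conj_iff D.Np).2 (D.S20_P s (-t))
  rwa [(D.Np_S20 s).eq, mul_inv_cancel_right, D.Np_P, neg_neg] at h

/-- Roots far from the first two indices. -/
theorem far {p q : Fin (m + 4)} (h : p ≠ q) (hp : 1 ≤ p.val) (hq : 1 ≤ q.val) (hp' : p.val ≠ 2) (hq' : q.val ≠ 2)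
    (s t : F) : Commute (D.S.x p q s) (D.P t) ∧ Commute (D.S.x p q s) (D.N t) := by
  have h0 : ∀ {p q : Fin (m + 4)}, p ≠ q → 3 ≤ p.val → 3 ≤ q.val → ∀ s,
      Commute (D.S.x p q s) (D.P t) ∧ Commute (D.S.x p q s) (D.N t) := by
    intro p q h hp hq s
    rw [← D.cw_C h (by omega) (by omega)]
    have z1 : Commute (D.S.x p q s) (D.S.x (ix 2) (ix 0) t) := D.S.comm _ _ _ _ h (by simp [Fin.ext_iff])
      (fun e => by have := congrArg Fin.val e; simp only at this; omega) (fun e => by have := congrArg Fin.val e; simp only at this; omega) s t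
    have z2 : Commute (D.S.x p q s) (D.S.x (ix 0) (ix 2) t) := D.S.comm _ _ _ _ h (by simp [Fin.ext_iff])
      (fun e => by have := congrArg Fin.val e; simp only at this; omega) (fun e => by have := congrArg Fin.val e; simp only at this; omega) s t
    exact ⟨z1.map D.cw, z2.map D.cw⟩
  have one : ∀ {p : Fin (m + 4)}, 3 ≤ p.val → ∀ s,
      (Commute (D.S.x (ix 1) p s) (D.P t) ∧ Commute (D.S.x (ix 1) p s) (D.N t)) ∧
      (Commute (D.S.x p (ix 1) s) (D.P t) ∧ Commute (D.S.x p (ix 1) s) (D.N t)) := by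
    intro p hp s
    rcases eq_or_ne p (ix 3) with hp3 | hp3
    · subst hp3
      exact ⟨⟨D.S13_P s t, D.S13_N s t⟩, D.S31_P s t, D.S31_N s t⟩
    have h1p : (ix 1 : Fin (m + 4)) ≠ p := (ne_ix (by omega)).symm
    have e := D.S.chain (ix 1) (ix 3) p (by simp [Fin.ext_iff]) hp3.symm h1p s 1
    have e' := D.S.chain p (ix 3) (ix 1) hp3 (by simp [Fin.ext_iff]) h1p.symm s 1
    rw [mul_one] at e e'
    obtain ⟨a1, a2⟩ := h0 hp3.symm (by simp) hp 1
    obtain ⟨b1, b2⟩ := h0 hp3 hp (by simp) s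
    rw [show D.S.x (ix 1) p s = D.S.x (ix 1) (ix 3) s * D.S.x (ix 3) p 1 * (D.S.x (ix 1) (ix 3) s)⁻¹ *
      (D.S.x (ix 3) p 1)⁻¹ by rw [e]; group]
    rw [show D.S.x p (ix 1) s = D.S.x p (ix 3) s * D.S.x (ix 3) (ix 1) 1 * (D.S.x p (ix 3) s)⁻¹ *
      (D.S.x (ix 3) (ix 1) 1)⁻¹ by rw [e']; group]
    exact ⟨⟨((((D.S13_P s t).mul_left a1).mul_left (D.S13_P s t).inv_left).mul_left a1.inv_left),
      ((((D.S13_N s t).mul_left a2).mul_left (D.S13_N s t).inv_left).mul_left a2.inv_left)⟩,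
      (((b1.mul_left (D.S31_P 1 t)).mul_left b1.inv_left).mul_left (D.S31_P 1 t).inv_left),
      (((b2.mul_left (D.S31_N 1 t)).mul_left b2.inv_left).mul_left (D.S31_N 1 t).inv_left)⟩
  rcases eq_or_ne p.val 1 with hp1 | hp1
  · have e1 : p = ix 1 := Fin.ext hp1
    subst e1
    have : q.val ≠ 1 := fun e => h (Fin.ext e.symm)
    exact (one (by omega) s).1
  rcases eq_or_ne q.val 1 with hq1 | hq1
  · have e1 : q = ix 1 := Fin.ext hq1
    subst e1
    exact (one (by omega) s).2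
  exact h0 h (by omega) (by omega) s

theorem exists_second : ∃ S' : Rels F (m + 4) Q, (∀ p q, p ≠ q → p ≠ ix 0 → q ≠ ix 0 → ∀ t, S'.x p q t = D.S.x p q t) ∧
    (∀ t, S'.x (ix 2) (ix 0) t = D.P t) ∧ (∀ t, S'.x (ix 0) (ix 2) t = D.N t) := by
  have hf : Function.Injective (![ix 3, ix 2, ix 0] : Fin 3 → Fin (m + 4)) := by
    intro i j; fin_cases i <;> fin_cases j <;> simp [Fin.ext_iff]
  let T : Rels F 3 Q := mapR D.cw.toMonoidHom (restrict D.S _ hf)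
  have sv : ∀ (k : ℕ) (h : k < m + 3), (Fin.succ ⟨k, h⟩ : Fin (m + 4)).val = k + 1 := fun k h => rfl
  let G : Glue F (m + 3) Q :=
    { S := restrict D.S Fin.succ (Fin.succ_injective _)
      T := T
      a := ⟨2, by omega⟩
      b := ⟨1, by omega⟩
      hab := by simp [Fin.ext_iff]
      third := fun i j => by
        have : ({i, j} : Finset (Fin (m + 3)))ᶜ.Nonempty := by
          rw [← Finset.card_pos, Finset.card_compl, Fintype.card_fin]
          have := Finset.card_le_two (a := i) (b := j)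
          omega
        obtain ⟨l, hl⟩ := this
        simp at hl
        exact ⟨l, hl.1, hl.2⟩
      h01 := fun t => (D.cw_C (p := ix 3) (q := ix 2) (by simp [Fin.ext_iff]) (by simp) le_rfl t).symm
      h10 := fun t => (D.cw_C (p := ix 2) (q := ix 3) (by simp [Fin.ext_iff]) le_rfl (by simp) t).symm
      hc := fun p q h hp hq s t => (D.far ((Fin.succ_injective _).ne h) (by simp) (by simp)
        (fun e => hp (Fin.ext (by simpa using e))) (fun e => hq (Fin.ext (by simpa using e))) s t).1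
      hc' := fun p q h hp hq s t => (D.far ((Fin.succ_injective _).ne h) (by simp) (by simp)
        (fun e => hp (Fin.ext (by simpa using e))) (fun e => hq (Fin.ext (by simpa using e))) s t).2 }
  obtain ⟨R, hR, hR1, hR2⟩ := G.extend
  let σ : Fin (m + 4) → Fin (m + 4) := Fin.cases (Fin.last (m + 3)) Fin.castSucc
  have hσ : Function.Injective σ := by
    intro i j
    induction i using Fin.cases with
    | zero =>
      induction j using Fin.cases with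
      | zero => intro _; rfl
      | succ j => intro e; exact absurd e (Fin.castSucc_ne_last j).symm
    | succ i =>
      induction j using Fin.cases with
      | zero => intro e; exact absurd e (Fin.castSucc_ne_last i)
      | succ j => intro e; exact congrArg Fin.succ (Fin.castSucc_injective _ e)
  refine ⟨restrict R σ hσ, fun p q h hp hq t => ?_, fun t => hR1 t, fun t => hR2 t⟩
  obtain ⟨p, rfl⟩ := Fin.exists_succ_eq.2 (show p ≠ 0 from fun e => hp (e.trans (Fin.ext rfl)))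
  obtain ⟨q, rfl⟩ := Fin.exists_succ_eq.2 (show q ≠ 0 from fun e => hq (e.trans (Fin.ext rfl)))
  show R.x (σ p.succ) (σ q.succ) t = _
  simp only [σ, Fin.cases_succ]
  exact hR p q t

theorem exists_glue : ∃ G : DGlue F (m + 4) Q, G.S = D.S ∧ G.L = ix 0 ∧
    (∀ t, G.S'.x (ix 2) (ix 0) t = D.P t) ∧ (∀ t, G.S'.x (ix 0) (ix 2) t = D.N t) := by
  obtain ⟨S', agree, hP, hN⟩ := D.exists_second
  have n01 : (ix 0 : Fin (m + 4)) ≠ ix 1 := (by simp [Fin.ext_iff])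
  have n02 : (ix 0 : Fin (m + 4)) ≠ ix 2 := (by simp [Fin.ext_iff])
  have n03 : (ix 0 : Fin (m + 4)) ≠ ix 3 := (by simp [Fin.ext_iff])
  have n12 : (ix 1 : Fin (m + 4)) ≠ ix 2 := (by simp [Fin.ext_iff])
  have n13 : (ix 1 : Fin (m + 4)) ≠ ix 3 := (by simp [Fin.ext_iff])
  have n23 : (ix 2 : Fin (m + 4)) ≠ ix 3 := (by simp [Fin.ext_iff])
  -- moving from `2` to `a`
  have mv : ∀ a, a ≠ ix 0 → ∃ g : Q, ∀ u, g * D.S.x (ix 2) (ix 0) u * g⁻¹ = D.S.x a (ix 0) u ∧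
      g * D.S.x (ix 0) (ix 2) u * g⁻¹ = D.S.x (ix 0) a u ∧ g * S'.x (ix 2) (ix 0) u * g⁻¹ = S'.x a (ix 0) u ∧
      g * S'.x (ix 0) (ix 2) u * g⁻¹ = S'.x (ix 0) a u := by
    intro a ha
    rcases eq_or_ne a (ix 2) with rfl | h
    · exact ⟨1, fun u => by simp⟩
    have hw : S'.w a (ix 2) 1 = D.S.w a (ix 2) 1 := by
      simp only [Rels.w, agree _ _ h ha n02.symm, agree _ _ h.symm n02.symm ha]
    refine ⟨D.S.w a (ix 2) 1, fun u => ⟨?_, ?_, ?_, ?_⟩⟩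
    · rw [D.S.w_jk h ha n02.symm one_ne_zero, one_mul]
    · rw [D.S.w_kj h ha.symm n02 one_ne_zero, inv_one, one_mul]
    · rw [← hw, S'.w_jk h ha n02.symm one_ne_zero, one_mul]
    · rw [← hw, S'.w_kj h ha.symm n02 one_ne_zero, inv_one, one_mul]
  have b1 : ∀ t u, Commute (D.S.x (ix 2) (ix 0) t) (S'.x (ix 2) (ix 0) u) := fun t u => hP u ▸ D.S20_P t u
  have b2 : ∀ t u, Commute (D.S.x (ix 2) (ix 0) t) (S'.x (ix 0) (ix 2) u) := fun t u => hN u ▸ D.S20_N t u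
  have b3 : ∀ t u, Commute (D.S.x (ix 0) (ix 2) t) (S'.x (ix 2) (ix 0) u) := fun t u => by
    rw [hP]
    refine D.comm_cw ?_
    rw [P, D.cw_cw]
    exact (D.S20_N u t).symm
  -- the roots `(3, 0)` and `(0, 3)` of the second system
  have cwS : ∀ t, S'.x (ix 3) (ix 0) t = D.cw (D.S.x (ix 3) (ix 0) t) ∧
      S'.x (ix 0) (ix 3) t = D.cw (D.S.x (ix 0) (ix 3) t) := by
    intro t
    constructor
    · have e1 := S'.chain (ix 3) (ix 2) (ix 0) n23.symm n02.symm n03.symm t 1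
      have e2 := congrArg D.cw (D.S.chain (ix 3) (ix 2) (ix 0) n23.symm n02.symm n03.symm t 1)
      rw [mul_one, agree _ _ n23.symm n03.symm n02.symm, hP] at e1
      simp only [mul_one, map_mul, D.cw_C n23.symm (by simp) le_rfl] at e2
      exact mul_right_cancel (mul_right_cancel (e1.symm.trans e2))
    · have e1 := S'.chain (ix 0) (ix 2) (ix 3) n02 n23 n03 t 1
      have e2 := congrArg D.cw (D.S.chain (ix 0) (ix 2) (ix 3) n02 n23 n03 t 1)
      rw [mul_one, agree _ _ n23 n02.symm n03.symm, hN] at e1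
      simp only [mul_one, map_mul, D.cw_C n23 le_rfl (by simp)] at e2
      exact mul_right_cancel (mul_right_cancel (e1.symm.trans e2))
  -- the root `-ε_1 - ε_3`
  set Dd : F → Q := fun t => D.cw (D.S.x (ix 1) (ix 3) t) with hDd
  have hDB : ∀ t u, Commute (Dd t) (S'.x (ix 0) (ix 3) u) := fun t u => by
    rw [(cwS u).2]
    exact (show Commute _ _ from D.S.comm _ _ _ _ n13 n03 n13 n03.symm t u).map D.cw
  have c11 : ∀ t u, Commute (D.S.x (ix 1) (ix 0) t) (S'.x (ix 1) (ix 0) u) := fun t u => by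
    obtain ⟨g, hg⟩ := mv (ix 1) n01.symm
    rw [← (hg t).1, ← (hg u).2.2.1]
    exact (Commute.conj_iff g).2 (b1 t u)
  have hDE : ∀ t u, Commute (Dd t) (D.S.x (ix 3) (ix 1) u) := fun t u => by
    refine D.comm_cw ?_
    rw [hDd, D.cw_cw]
    have e := D.S.chain (ix 3) (ix 0) (ix 1) n03.symm n01 n13.symm u 1
    rw [mul_one] at e
    rw [show D.S.x (ix 3) (ix 1) u = D.S.x (ix 3) (ix 0) u * D.S.x (ix 0) (ix 1) 1 *
      (D.S.x (ix 3) (ix 0) u)⁻¹ * (D.S.x (ix 0) (ix 1) 1)⁻¹ by rw [e]; group]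
    simp only [map_mul, map_inv, ← (cwS u).1, D.cw_01]
    set s := D.S.x (ix 1) (ix 3) t
    set B' := S'.x (ix 3) (ix 0) u
    set Y := D.S.x (ix 1) (ix 0) (-1)
    set Z := S'.x (ix 1) (ix 0) (t * u)
    have hsY : Commute s Y := D.S.comm _ _ _ _ n13 n01.symm n01.symm.symm.symm (Ne.symm n13) t (-1)
    have hsB : s * B' = Z * B' * s := by
      have := S'.chain (ix 1) (ix 3) (ix 0) n13 n03.symm n01.symm t u
      rwa [agree _ _ n13 n01.symm n03.symm] at this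
    have hZB : Commute Z B' := S'.comm _ _ _ _ n01.symm n03.symm n01.symm n03 (t * u) u
    have hZY : Commute Z Y := (c11 (-1) (t * u)).symm
    have hZ : Commute Z (B' * Y * B'⁻¹ * Y⁻¹) :=
      ((hZB.mul_right hZY).mul_right hZB.inv_right).mul_right hZY.inv_right
    show s * (B' * Y * B'⁻¹ * Y⁻¹) = B' * Y * B'⁻¹ * Y⁻¹ * s
    calc s * (B' * Y * B'⁻¹ * Y⁻¹) = (s * B') * Y * B'⁻¹ * Y⁻¹ := by group
      _ = Z * B' * (s * Y) * B'⁻¹ * Y⁻¹ := by rw [hsB]; group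
      _ = Z * B' * Y * (s * B'⁻¹) * Y⁻¹ := by rw [hsY.eq]; group
      _ = Z * B' * Y * (B'⁻¹ * Z⁻¹ * s) * Y⁻¹ := by
          rw [push_inv hsB]
      _ = Z * B' * Y * B'⁻¹ * Z⁻¹ * (s * Y⁻¹) := by group
      _ = Z * B' * Y * B'⁻¹ * (Z⁻¹ * Y⁻¹) * s := by rw [hsY.inv_right.eq]; group
      _ = Z * (B' * Y * B'⁻¹ * Y⁻¹) * Z⁻¹ * s := by rw [hZY.inv_left.inv_right.eq]; group
      _ = B' * Y * B'⁻¹ * Y⁻¹ * s := by rw [hZ.eq]; group
  have c14 : ∀ t v, Commute (D.S.x (ix 0) (ix 1) t) (S'.x (ix 0) (ix 1) v) := fun t v => by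
    have e := S'.chain (ix 0) (ix 3) (ix 1) n03 n13.symm n01 v 1
    rw [mul_one, agree _ _ n13.symm n03.symm n01.symm] at e
    set a := D.S.x (ix 0) (ix 1) t
    set B := S'.x (ix 0) (ix 3) v
    set E := D.S.x (ix 3) (ix 1) 1
    set d := Dd (-t * v)
    have haB : a * B = d * B * a := by
      have := congrArg D.cw (D.S.chain (ix 1) (ix 0) (ix 3) n01.symm n03 n13 (-t) v)
      simp only [map_mul, D.cw_10, neg_neg, ← (cwS v).2] at this
      exact this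
    have haE : Commute a E := D.S.comm _ _ _ _ n01 n13.symm n01 n13 t 1
    have hd : Commute d (B * E * B⁻¹ * E⁻¹) :=
      (((hDB _ v).mul_right (hDE _ 1)).mul_right (hDB _ v).inv_right).mul_right (hDE _ 1).inv_right
    rw [show S'.x (ix 0) (ix 1) v = B * E * B⁻¹ * E⁻¹ by rw [e]; group]
    show a * (B * E * B⁻¹ * E⁻¹) = B * E * B⁻¹ * E⁻¹ * a
    calc a * (B * E * B⁻¹ * E⁻¹) = (a * B) * E * B⁻¹ * E⁻¹ := by group
      _ = d * B * (a * E) * B⁻¹ * E⁻¹ := by rw [haB]; group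
      _ = d * B * E * (a * B⁻¹) * E⁻¹ := by rw [haE.eq]; group
      _ = d * B * E * (B⁻¹ * d⁻¹ * a) * E⁻¹ := by
          rw [push_inv haB]
      _ = d * B * E * B⁻¹ * d⁻¹ * (a * E⁻¹) := by group
      _ = d * B * E * B⁻¹ * (d⁻¹ * E⁻¹) * a := by rw [haE.inv_right.eq]; group
      _ = d * (B * E * B⁻¹ * E⁻¹) * d⁻¹ * a := by rw [show d⁻¹ * E⁻¹ = E⁻¹ * d⁻¹ from ((hDE (-t * v) 1).inv_left.inv_right).eq]; group
      _ = B * E * B⁻¹ * E⁻¹ * a := by rw [hd.eq]; group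
  have b4 : ∀ t u, Commute (D.S.x (ix 0) (ix 2) t) (S'.x (ix 0) (ix 2) u) := fun t u => by
    obtain ⟨g, hg⟩ := mv (ix 1) n01.symm
    refine (Commute.conj_iff g).1 ?_
    rw [(hg t).2.1, (hg u).2.2.2]
    exact c14 t u
  refine ⟨{
    S := D.S, S' := S', L := ix 0
    third := fun i j => by
      have : ({i, j} : Finset (Fin (m + 4)))ᶜ.Nonempty := by
        rw [← Finset.card_pos, Finset.card_compl, Fintype.card_fin]
        have := Finset.card_le_two (a := i) (b := j)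
        omega
      obtain ⟨l, hl⟩ := this
      simp at hl
      exact ⟨l, hl.1, hl.2⟩
    agree := agree
    c1 := fun a ha t u => ?_, c2 := fun a ha t u => ?_, c3 := fun a ha t u => ?_, c4 := fun a ha t u => ?_ },
    rfl, rfl, hP, hN⟩
  all_goals obtain ⟨g, hg⟩ := mv a ha
  · rw [← (hg t).1, ← (hg u).2.2.1]; exact (Commute.conj_iff g).2 (b1 t u)
  · rw [← (hg t).1, ← (hg u).2.2.2]; exact (Commute.conj_iff g).2 (b2 t u)
  · rw [← (hg t).2.1, ← (hg u).2.2.1]; exact (Commute.conj_iff g).2 (b3 t u)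
  · rw [← (hg t).2.1, ← (hg u).2.2.2]; exact (Commute.conj_iff g).2 (b4 t u)

end Data

end Cfsg.Agent.OmegaPres
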