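import Cfsg.Agent.Lib.CurtisTits.DKernel

/-!
For a cover of type `D_n` the kernel lies in the torus.
-/

set_option autoImplicit false

namespace Cfsg.Agent.CurtisTits.DCover

open DType DModel
open Cfsg.Agent.MaxCl Cfsg.Agent.MaxCl.Orth
open scoped MatrixGroups

variable {F : Type*} [Field F] {n : ℕ} {M : Type*} [Group M] (C : DCover F n M)

/-- The elements acting diagonally. -/
def Dia : Subgroup (GL (SIdx n) F) where
  carrier := {g | ∀ p, ∃ c : F, c ≠ 0 ∧ ∀ x, act g x p = c * x p}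
  one_mem' p := ⟨1, one_ne_zero, fun x => by rw [act_one, one_mul]⟩
  mul_mem' {a b} ha hb p := by
    obtain ⟨c, hc0, hc⟩ := ha p
    obtain ⟨d, hd0, hd⟩ := hb p
    exact ⟨c * d, mul_ne_zero hc0 hd0, fun x => by rw [act_mul, hc, hd, mul_assoc]⟩
  inv_mem' {a} ha p := by
    obtain ⟨c, hc0, hc⟩ := ha p
    exact ⟨c⁻¹, inv_ne_zero hc0, fun x => by
      have h := hc (act a⁻¹ x)
      rw [act_act_inv] at h
      rw [h, inv_mul_cancel_left₀ hc0]⟩

/-- The unitriangular elements. -/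
def Uni : Subgroup (GL (SIdx n) F) where
  carrier := {g | g ∈ UT ∧ ∀ a, act g (ev a) a = 1}
  one_mem' := ⟨one_mem _, fun a => by simp [act_one, ev_apply]⟩
  mul_mem' := by
    rintro g g' ⟨hg, hg1⟩ ⟨hg', hg1'⟩
    refine ⟨mul_mem hg hg', fun a => ?_⟩
    have hev : (ev a : SIdx n → F) ∈ flag (pos a + 1) := fun p hp => by
      rw [ev_apply, if_neg fun e => by subst e; omega]
    have hy : act g' (ev a) - ev a ∈ flag (F := F) (n := n) (pos a) := fun p hp => by
      rcases eq_or_lt_of_le hp with e | e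
      · rw [← pos_inj e]
        simp [hg1', ev_apply]
      · rw [Pi.sub_apply, (hg' _ _ hev).1 p (by omega), hev p (by omega), sub_zero]
    have h := (hg _ _ hy).1 a le_rfl
    rw [map_sub, Pi.sub_apply, sub_eq_zero] at h
    rw [act_mul, h, hg1]
  inv_mem' := by
    rintro g ⟨hg, hg1⟩
    refine ⟨inv_mem hg, fun a => ?_⟩
    have hev : (ev a : SIdx n → F) ∈ flag (pos a + 1) := fun p hp => by
      rw [ev_apply, if_neg fun e => by subst e; omega]
    have hz : act g⁻¹ (ev a) ∈ flag (F := F) (n := n) (pos a + 1) := (hg _ _ hev).2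
    set z := act g⁻¹ (ev a : SIdx n → F)
    have hy : z - z a • (ev a : SIdx n → F) ∈ flag (pos a) := fun p hp => by
      rcases eq_or_lt_of_le hp with e | e
      · rw [← pos_inj e]
        simp [ev_apply]
      · rw [Pi.sub_apply, Pi.smul_apply, hz p (by omega), hev p (by omega), smul_zero, sub_zero]
    have h := (hg _ _ hy).1 a le_rfl
    rw [map_sub, map_smul, Pi.sub_apply, Pi.smul_apply, hg1, act_act_inv, sub_eq_zero, ev_apply, if_pos rfl,
      smul_eq_mul, mul_one] at h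
    exact h.symm

theorem E_mem_Uni {a b : SIdx n} (h : lv a ≠ lv b) (hab : pos a < pos b) (t : F) : E a b t ∈ Uni (n := n) (F := F) := by
  refine ⟨E_mem_UT h hab t, fun p => ?_⟩
  rw [act_E h, ev_apply, ev_apply, ev_apply, if_pos rfl]
  by_cases h1 : p = a
  · subst h1
    rw [if_pos rfl, if_neg fun e => (lv_ne.1 h).1 e.symm, if_neg (lv_ne.1 h).2]
    ring
  by_cases h2 : p = ng b
  · subst h2
    rw [if_neg h1, if_pos rfl, if_neg fun e => (lv_ne.1 h).1 (ng_inj.1 e)]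
    ring
  rw [if_neg h1, if_neg h2]
  ring

theorem H_diag {h : M} (hh : h ∈ C.H) : C.θ h ∈ Dia := by
  refine (show C.H ≤ Dia.comap C.θ from ?_) hh
  rw [H, Subgroup.closure_le]
  rintro _ ⟨r, t, u, ht, hu, rfl⟩ p
  refine ⟨wc r.1.1 r.1.2 t (sw r.1.1 r.1.2 p) * wc r.1.1 r.1.2 u p, ?_, fun x => ?_⟩
  rotate_left
  · rw [map_mul, C.map_w r.ne, C.map_w r.ne]
    have := (mono_w (F := F) r.ne ht).mul (mono_w r.ne hu) x p
    rwa [Equiv.Perm.mul_apply, sw_sw r.ne] at this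
  · exact mul_ne_zero (left_ne_zero_of_mul (by rw [wc_mul r.ne ht]; exact one_ne_zero))
      (left_ne_zero_of_mul (by rw [wc_mul r.ne hu]; exact one_ne_zero))

variable (hn : 3 ≤ n)

theorem U_uni {u : M} (hu : u ∈ (C.data hn).U) : C.θ u ∈ Uni := by
  refine (show (C.data hn).U ≤ Uni.comap C.θ from iSup₂_le fun r hr => ?_) hu
  rintro _ ⟨t, rfl⟩
  show C.θ (C.R.x r.1.1 r.1.2 t) ∈ Uni
  rw [C.map_x _ _ r.ne]
  exact E_mem_Uni r.ne ((isPos_iff r).1 hr) t

include hn in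
/-- An element of the kernel lies in the torus. -/
theorem ker_le_H (hgen : Subgroup.closure {g | ∃ a b, lv a ≠ lv b ∧ ∃ t : F, g = C.R.x a b t} = ⊤) :
    C.θ.ker ≤ C.H := by
  classical
  have ax := C.axioms hn
  intro g hg
  have hgrp : (C.data hn).grp = ⊤ := by
    rw [eq_top_iff, ← hgen, Subgroup.closure_le]
    rintro _ ⟨a, b, h, t, rfl⟩
    exact C.x_le_grp hn h t
  obtain ⟨l, hl⟩ := RootBN.Data.exists_cell ax (hgrp.symm ▸ Subgroup.mem_top g)
  have hgB : g ∈ (C.data hn).B := by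
    by_contra hgB
    have hne : (C.data hn).wl l ≠ 1 := fun e => hgB ((RootBN.Data.mem_cell_one ax).1 (e ▸ hl))
    obtain ⟨i, hi⟩ := RootBN.Data.exists_simp_neg ax l hne
    obtain ⟨b, hb, c, hc, e⟩ :=
      (RootBN.Data.mem_cell_iff ax (RootBN.Data.nw_mem_N l) (RootBN.Data.acts_nw ax l)).1 hl
    set w := (C.data hn).nw l
    have hUT : ∀ {y}, y ∈ (C.data hn).B → C.θ y ∈ UT := fun hy => C.map_B_le hn ⟨_, hy, rfl⟩
    have hw : C.θ w ∈ UT := by
      have h1 : C.θ b * C.θ w * C.θ c = 1 := by rw [← map_mul, ← map_mul, ← e]; exact hg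
      rw [show C.θ w = (C.θ b)⁻¹ * (C.θ c)⁻¹ by
        rw [← mul_inv_rev, eq_inv_iff_mul_eq_one]
        calc C.θ w * (C.θ c * C.θ b) = (C.θ b)⁻¹ * (C.θ b * C.θ w * C.θ c) * C.θ b := by group
          _ = 1 := by rw [h1]; group]
      exact mul_mem (inv_mem (hUT hb)) (inv_mem (hUT hc))
    set s := simpR (show 2 ≤ n by omega) i
    have hx : C.R.x s.1.1 s.1.2 1 ∈ (C.data hn).X s := ⟨1, rfl⟩
    obtain ⟨v, hv⟩ := (RootBN.Data.acts_nw ax l s _).2 hx
    have hneg : ¬ IsPos ((C.data hn).wl l s) := hi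
    set r := (C.data hn).wl l s
    have hm : C.θ (C.R.x r.1.1 r.1.2 v) ∈ UT := by
      rw [hv, map_mul, map_mul, map_inv]
      exact mul_mem (mul_mem hw (hUT (RootBN.Data.X_simp_le_B ax i hx))) (inv_mem hw)
    rw [C.map_x _ _ r.ne] at hm
    have hlt : pos r.1.2 < pos r.1.1 := by
      rcases Nat.lt_or_ge (pos r.1.1) (pos r.1.2) with h | h
      · exact absurd ((isPos_iff r).2 h) hneg
      · exact lt_of_le_of_ne h fun e => (lv_ne.1 r.ne).1 (pos_inj e).symm
    rw [E_not_UT r.ne hlt hm, C.R.x_zero r.ne, eq_comm, conj_eq_one_iff, ← C.R.x_zero s.ne] at hv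
    exact one_ne_zero (C.x_inj s.ne (congrArg C.θ hv))
  obtain ⟨u, hu, h, hh, rfl⟩ := (RootBN.Data.mem_B_iff ax).1 hgB
  rw [MonoidHom.mem_ker, map_mul] at hg
  have hd : C.θ u ∈ Dia := by
    rw [eq_inv_of_mul_eq_one_left hg]
    exact inv_mem (C.H_diag hh)
  have h1 : C.θ u = 1 := E_ext fun x p => by
    obtain ⟨c, -, hc⟩ := hd p
    have := (C.U_uni hn hu).2 p
    rw [hc, ev_apply, if_pos rfl, mul_one] at this
    rw [hc, this, one_mul, act_one]
  rwa [C.U_eq_one hn hu h1, one_mul]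

end Cfsg.Agent.CurtisTits.DCover
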