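import Cfsg.Agent.Lib.OmegaPres.Model
import Cfsg.Agent.Lib.OmegaPres.Torsion

/-!
A group with the defining properties is the orthogonal group.
-/

set_option autoImplicit false

namespace Cfsg.Agent.OmegaPres

open Matrix SL2Presentation CurtisTits CurtisTits.DType CurtisTits.DModel
open Cfsg.Agent.MaxCl
open scoped MatrixGroups

/-- The two names of a Weyl element. -/
theorem w_swap {K : Type*} [Field K] {G : Type*} [Group G] {n : ℕ} (S : Rels K n G) {i j k : Fin n} (hij : i ≠ j)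
    (hki : k ≠ i) (hkj : k ≠ j) {t : K} (ht : t ≠ 0) : S.w j i (-t⁻¹) = S.w i j t := by
  have h := S.rel_of_third hij hki hkj t t ht
  rw [mul_inv_eq_iff_eq_mul, show t⁻¹ ^ 2 * t = t⁻¹ by field_simp] at h
  simp only [Rels.w, inv_neg, inv_inv, neg_neg] at h ⊢
  have e : S.x i j t * S.x j i (-t⁻¹) * S.x i j t * S.x i j t =
      S.x j i (-t⁻¹) * S.x i j t * S.x j i (-t⁻¹) * S.x i j t := by rw [h]; group
  exact (mul_right_cancel e).symm

variable {F : Type*} [Field F] [Finite F] {m : ℕ} {Q : Type*} [Group Q] (D : Data F m Q)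
  (θ : Q →* GL (SIdx (m + 4)) F) (hφ : ∀ A, θ (D.φ A) = emb A) (hw : θ D.w = flipGL F m)

include hφ hw

theorem exists_cover : ∃ C : DCover F (m + 4) Q, C.θ = θ ∧
    (∀ p q, p ≠ q → ∀ t, C.R.x (.inl p) (.inl q) t = D.S.x p q t) ∧
    (∀ t, C.R.x (.inl (ix 2)) (.inr (ix 0)) t = D.P t) ∧ (∀ t, C.R.x (.inr (ix 0)) (.inl (ix 2)) t = D.N t) ∧
    Commute D.NN D.Np := by
  obtain ⟨G, hS, hL, hP, hN⟩ := D.exists_glue
  set R := G.toRelsD
  have h20 : (ix 2 : Fin (m + 4)) ≠ ix 0 := by simp [Fin.ext_iff]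
  have xS : ∀ p q, p ≠ q → ∀ t, R.x (.inl p) (.inl q) t = D.S.x p q t := fun p q h t => by
    rw [← hS]; exact G.frame_S.eq p q h t
  have x0 : ∀ a, a ≠ ix 0 → ∀ t, R.x (.inl a) (.inr (ix 0)) t = G.S'.x a (ix 0) t ∧
      R.x (.inr (ix 0)) (.inl a) t = G.S'.x (ix 0) a t := fun a _ t => by
    constructor <;> simp [R, DGlue.toRelsD, DGlue.x, hL]
  have flipS : flipPerm m (.inl (ix 2)) = .inl (ix 2) := by
    rw [flip_inl, if_neg (by simp [Fin.ext_iff])]
  have flip0 : flipPerm m (.inl (ix 0)) = .inr (ix 0) := by rw [flip_inl, if_pos (Or.inl rfl)]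
  have mS : ∀ p q, p ≠ q → ∀ t, θ (D.S.x p q t) = E (.inl p) (.inl q) t := fun p q h t => by
    rw [Data.S, ofHom_x _ h, hφ, emb_T h]
  have m20 : ∀ t, θ (G.S'.x (ix 2) (ix 0) t) = E (.inl (ix 2)) (.inr (ix 0)) t ∧
      θ (G.S'.x (ix 0) (ix 2) t) = E (.inr (ix 0)) (.inl (ix 2)) t := fun t => by
    rw [hP, hN]
    constructor
    · simp only [Data.P, Data.cw, MulAut.conj_apply, map_mul, map_inv, hw, mS _ _ h20]
      rw [flip_E (a := Sum.inl (ix 2)) (b := Sum.inl (ix 0)) h20, flipS, flip0]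
    · simp only [Data.N, Data.cw, MulAut.conj_apply, map_mul, map_inv, hw, mS _ _ h20.symm]
      rw [flip_E (a := Sum.inl (ix 0)) (b := Sum.inl (ix 2)) h20.symm, flipS, flip0]
  have m0 : ∀ a, a ≠ ix 0 → ∀ t, θ (G.S'.x a (ix 0) t) = E (.inl a) (.inr (ix 0)) t ∧
      θ (G.S'.x (ix 0) a t) = E (.inr (ix 0)) (.inl a) t := by
    intro a ha t
    rcases eq_or_ne a (ix 2) with h | h
    · subst h; exact m20 t
    have ag1 : ∀ s, G.S'.x a (ix 2) s = D.S.x a (ix 2) s := fun s => by
      rw [← hS]; exact G.agree _ _ h (hL ▸ ha) (hL ▸ h20) s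
    have ag2 : ∀ s, G.S'.x (ix 2) a s = D.S.x (ix 2) a s := fun s => by
      rw [← hS]; exact G.agree _ _ h.symm (hL ▸ h20) (hL ▸ ha) s
    constructor
    · have e := congrArg θ (G.S'.chain a (ix 2) (ix 0) h h20 ha t 1)
      simp only [mul_one, map_mul, ag1, mS _ _ h, (m20 1).1] at e
      have e' := E_chain (F := F) (a := Sum.inl a) (b := Sum.inl (ix 2)) (c := Sum.inr (ix 0)) h h20 ha t 1
      rw [mul_one] at e'
      exact mul_right_cancel (mul_right_cancel (e.symm.trans e'))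
    · have e := congrArg θ (G.S'.chain (ix 0) (ix 2) a h20.symm h.symm ha.symm t 1)
      simp only [mul_one, map_mul, ag2, mS _ _ h.symm, (m20 t).2] at e
      have e' := E_chain (F := F) (a := Sum.inr (ix 0)) (b := Sum.inl (ix 2)) (c := Sum.inl a) h20.symm h.symm
        ha.symm t 1
      rw [mul_one] at e'
      exact mul_right_cancel (mul_right_cancel (e.symm.trans e'))
  have hz : ∀ a b, lv a ≠ lv b → ∀ t, θ (R.x (ng b) (ng a) t) = E (ng b) (ng a) t → θ (R.x a b (-t)) = E a b (-t) :=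
    fun a b h t e => by rw [← R.symm a b h, e, E_symm h]
  -- the roots `±ε_0 ± ε_b`
  have r0 : ∀ b, b ≠ ix 0 → ∀ t, θ (R.x (.inl (ix 0)) (.inr b) t) = E (.inl (ix 0)) (.inr b) t ∧
      θ (R.x (.inr b) (.inl (ix 0)) t) = E (.inr b) (.inl (ix 0)) t := fun b hb t => by
    constructor
    · have := hz (.inl (ix 0)) (.inr b) hb.symm (-t) ((congrArg θ (x0 b hb (-t)).1).trans (m0 b hb (-t)).1)
      rwa [neg_neg] at this
    · have := hz (.inr b) (.inl (ix 0)) hb (-t) ((congrArg θ (x0 b hb (-t)).2).trans (m0 b hb (-t)).2)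
      rwa [neg_neg] at this
  have r1 : ∀ a b, a ≠ b → ∀ t, θ (R.x (.inl a) (.inr b) t) = E (.inl a) (.inr b) t ∧
      θ (R.x (.inr a) (.inl b) t) = E (.inr a) (.inl b) t := by
    intro a b h t
    rcases eq_or_ne a (ix 0) with ha | ha
    · subst ha
      exact ⟨(r0 b h.symm t).1, (congrArg θ (x0 b h.symm t).2).trans (m0 b h.symm t).2⟩
    rcases eq_or_ne b (ix 0) with hb | hb
    · subst hb
      exact ⟨(congrArg θ (x0 a ha t).1).trans (m0 a ha t).1, (r0 a ha t).2⟩
    constructor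
    · have e := congrArg θ (R.chain (.inl a) (.inl (ix 0)) (.inr b) ha hb.symm h t 1)
      simp only [mul_one, map_mul, xS _ _ ha, mS _ _ ha, (r0 b hb 1).1] at e
      have e' := E_chain (F := F) (a := Sum.inl a) (b := Sum.inl (ix 0)) (c := Sum.inr b) ha hb.symm h t 1
      rw [mul_one] at e'
      exact mul_right_cancel (mul_right_cancel (e.symm.trans e'))
    · have e := congrArg θ (R.chain (.inr a) (.inl (ix 0)) (.inl b) ha hb.symm h t 1)
      simp only [mul_one, map_mul, xS _ _ hb.symm, mS _ _ hb.symm, (r0 a ha t).2] at e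
      have e' := E_chain (F := F) (a := Sum.inr a) (b := Sum.inl (ix 0)) (c := Sum.inl b) ha hb.symm h t 1
      rw [mul_one] at e'
      exact mul_right_cancel (mul_right_cancel (e.symm.trans e'))
  refine ⟨{ R := R, θ := θ, map_x := ?_ }, rfl, xS, fun t => (x0 _ h20 t).1.trans (hP t),
    fun t => (x0 _ h20 t).2.trans (hN t), ?_⟩
  · intro a b h t
    rcases a with a | a <;> rcases b with b | b <;> change a ≠ b at h
    · rw [xS a b h, mS a b h]
    · exact (r1 a b h t).1
    · exact (r1 a b h t).2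
    · have := hz (.inr a) (.inr b) h (-t) ((congrArg θ (xS b a h.symm (-t))).trans (mS b a h.symm (-t)))
      rwa [neg_neg] at this
  · have := G.W_comm_W' (a := ix 2) (hL ▸ h20)
    rwa [DGlue.W, DGlue.W', hL, hS, show G.S'.w (ix 2) (ix 0) 1 = D.Np by
      simp only [Data.Np, Data.NN, Rels.w, hP, hN, Data.P, Data.N, map_mul]] at this

/-- **Recognition.** -/
theorem recognition (hgen : D.φ.range ⊔ Subgroup.closure {D.w} = ⊤) :
    Function.Injective θ ∧ θ.range = Cfsg.Geo.omegaGL ⇑(qf F (m + 4)) := by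
  classical
  obtain ⟨C, hC, xS, x20, x02, hNN⟩ := exists_cover D θ hφ hw
  have hn : 3 ≤ m + 4 := by omega
  set R := C.R
  have h20 : (ix 2 : Fin (m + 4)) ≠ ix 0 := by simp [Fin.ext_iff]
  have wS : ∀ p q, p ≠ q → ∀ t, R.w (.inl p) (.inl q) t = D.S.w p q t := fun p q h t => by
    simp only [RelsD.w, Rels.w, xS _ _ h, xS _ _ h.symm]
  have w20 : ∀ t, R.w (.inl (ix 2)) (.inr (ix 0)) t = D.cw (D.S.w (ix 2) (ix 0) t) := fun t => by
    simp only [RelsD.w, Rels.w, x20, x02, Data.P, Data.N, map_mul]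
  -- generation
  set K := Subgroup.closure {g | ∃ a b, lv a ≠ lv b ∧ ∃ t : F, g = R.x a b t}
  have mx : ∀ {a b}, lv a ≠ lv b → ∀ t, R.x a b t ∈ K := fun h t => Subgroup.subset_closure ⟨_, _, h, t, rfl⟩
  have mw : ∀ {a b}, lv a ≠ lv b → ∀ t, R.w a b t ∈ K := fun h t =>
    mul_mem (mul_mem (mx h t) (mx h.symm _)) (mx h t)
  have hK : K = ⊤ := by
    rw [eq_top_iff, ← hgen, sup_le_iff]
    refine ⟨?_, ?_⟩
    · rw [MonoidHom.range_eq_map, ← GL.closure_elementaryTransvections, MonoidHom.map_closure,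
        Subgroup.closure_le]
      rintro _ ⟨_, ⟨i, j, h, c, rfl⟩, rfl⟩
      rw [← ofHom_x D.φ h, ← Data.S, ← xS i j h]
      exact mx (a := Sum.inl i) (b := Sum.inl j) h c
    · rw [Subgroup.closure_le, Set.singleton_subset_iff, SetLike.mem_coe]
      have h21 : (ix 2 : Fin (m + 4)) ≠ ix 1 := by simp [Fin.ext_iff]
      have e : D.uu = D.NN * D.NN * D.NN * D.Np := D.hu
      rw [Data.uu, ← eq_mul_inv_iff_mul_eq, inv_inv, ← eq_inv_mul_iff_mul_eq, ← wS _ _ h21, Data.NN, ← wS _ _ h20,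
        Data.Np, Data.NN, ← w20] at e
      have a1 := mw (a := Sum.inl (ix 2)) (b := Sum.inl (ix 1)) h21 (1 : F)
      have a0 := mw (a := Sum.inl (ix 2)) (b := Sum.inl (ix 0)) h20 (1 : F)
      have a2 := mw (a := Sum.inl (ix 2)) (b := Sum.inr (ix 0)) h20 (1 : F)
      rw [e]
      exact mul_mem (inv_mem a1) (mul_mem (mul_mem (mul_mem (mul_mem a0 a0) a0) a2) a1)
  -- the extra torus
  set hp : Fˣ → Q := fun s => D.cw (D.φ (hEl h20 s))
  have hp_mul : ∀ s t, hp (s * t) = hp s * hp t := fun s t => by simp only [hp, hEl_mul, map_mul]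
  have hp_one : hp 1 = 1 := by
    have := hp_mul 1 1
    rw [one_mul] at this
    exact left_eq_mul.1 this
  have hp_ww : ∀ t u : Fˣ, R.w (.inl (ix 2)) (.inr (ix 0)) (t : F) * R.w (.inl (ix 2)) (.inr (ix 0)) (u : F) =
      hp (-t / u) := fun t u => by
    rw [w20, w20, ← map_mul]
    exact congrArg D.cw (ofHom_w_mul D.φ h20 t u)
  have hp_H : ∀ s, hp s ∈ C.H := fun s => by
    rw [show s = -(-s) / 1 by simp, ← hp_ww]
    exact C.ww_mem_H (a := Sum.inl (ix 2)) (b := Sum.inr (ix 0)) h20 (-s).ne_zero one_ne_zero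
  set kc : Fˣ → SIdx (m + 4) → F := fun s p =>
    Sum.elim (cc (ix 2) (ix 0) (s : F)) (fun q => (cc (ix 2) (ix 0) (s : F) q)⁻¹) (flipPerm m p)
  have hp_act : ∀ s x p, act (θ (hp s)) x p = kc s p * x p := fun s x p => by
    simp only [hp, Data.cw, MulAut.conj_apply, map_mul, map_inv, hw, hφ,
      inv_eq_of_mul_eq_one_left (flip_sq (F := F) (m := m))]
    rw [act_mul, act_mul, act_flip, emb_hEl_act, act_flip, flip_flip]
  have cc0 : ∀ (s : Fˣ) q, cc (ix 2 : Fin (m + 4)) (ix 0) (s : F) q ≠ 0 := fun s q => by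
    simp only [cc]; split_ifs <;> simp
  have kc_mul : ∀ s p, kc s p * kc s (ng p) = 1 := fun s p => by
    simp only [kc, flip_ng]
    rcases flipPerm m p with q | q
    · exact mul_inv_cancel₀ (cc0 s q)
    · exact inv_mul_cancel₀ (cc0 s q)
  have kc0 : ∀ s p, kc s p ≠ 0 := fun s p => left_ne_zero_of_mul (by rw [kc_mul s p]; exact one_ne_zero)
  have hp_conj : ∀ s {a b}, lv a ≠ lv b → ∀ t, hp s * R.x a b t * (hp s)⁻¹ = R.x a b (kc s a / kc s b * t) := by
    intro s a b h t
    have hy := (C.axioms hn).H_conj _ _ (hp_H s) _ (C.x_mem_X h t)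
    obtain ⟨v, hv⟩ := hy
    obtain ⟨v', hv'⟩ : ∃ v', R.x (canon a b h).1.1 (canon a b h).1.2 v = R.x a b v' := by
      rcases canon_cases a b h with e | e <;> rw [e]
      · exact ⟨v, rfl⟩
      · exact ⟨-v, R.symm a b h v⟩
    rw [← hv, hv']
    refine congrArg _ (C.x_inj h ?_)
    rw [← hv', hv, map_mul, map_mul, map_inv, C.map_x a b h, C.map_x a b h]
    have hm : Mono (C.θ (hp s)) 1 (kc s) := fun x p => by rw [hC]; exact hp_act s x p
    exact hm.conj (fun _ => rfl) (kc_mul s) h t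
  have hp_w : ∀ s {a b}, lv a ≠ lv b → ∀ t, hp s * R.w a b t * (hp s)⁻¹ = R.w a b (kc s a / kc s b * t) := by
    intro s a b h t
    simp only [RelsD.w, ← conj_mul, hp_conj s h, hp_conj s h.symm]
    congr 3
    rw [_root_.mul_inv, inv_div, neg_mul_eq_mul_neg]
  -- the torus of the first system
  set T := Subgroup.closure {g | ∃ p q, ∃ _ : p ≠ q, ∃ t u : Fˣ,
    g = R.w (Sum.inl p) (Sum.inl q) (t : F) * R.w (Sum.inl p) (Sum.inl q) (u : F)}
  have hTφ : ∀ g ∈ T, ∃ (A : SpecialLinearGroup (Fin (m + 4)) F) (d : Fin (m + 4) → F),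
      A.1 = diagonal d ∧ g = D.φ A := by
    intro g hg
    induction hg using Subgroup.closure_induction with
    | mem x hx =>
      obtain ⟨p, q, h, t, u, rfl⟩ := hx
      exact ⟨hEl h (-t / u), _, rfl, by rw [wS _ _ h, wS _ _ h]; exact ofHom_w_mul D.φ h t u⟩
    | one => exact ⟨1, fun _ => 1, by simp, (map_one _).symm⟩
    | mul x y _ _ ihx ihy =>
      obtain ⟨A, d, hA, rfl⟩ := ihx
      obtain ⟨B, e, hB, rfl⟩ := ihy
      exact ⟨A * B, fun p => d p * e p, by
        rw [← SpecialLinearGroup.coeMonoidHom_apply, map_mul]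
        simp only [SpecialLinearGroup.coeMonoidHom_apply, hA, hB, diagonal_mul_diagonal], (map_mul _ _ _).symm⟩
    | inv x _ ihx =>
      obtain ⟨A, d, hA, rfl⟩ := ihx
      refine ⟨A⁻¹, fun p => adjugate (diagonal d) p p, ?_, (map_inv _ _).symm⟩
      rw [Matrix.SpecialLinearGroup.coe_inv, hA, adjugate_diagonal]
      simp
  have hpT : ∀ s, ∀ g ∈ T, Commute (hp s) g := by
    intro s g hg
    induction hg using Subgroup.closure_induction with
    | mem x hx =>
      obtain ⟨p, q, h, t, u, rfl⟩ := hx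
      refine mul_inv_eq_iff_eq_mul.1 ?_
      rw [← conj_mul, hp_w s (a := Sum.inl p) (b := Sum.inl q) h, hp_w s (a := Sum.inl p) (b := Sum.inl q) h]
      set k : Fˣ := Units.mk0 (kc s (Sum.inl p) / kc s (Sum.inl q)) (div_ne_zero (kc0 _ _) (kc0 _ _))
      show R.w _ _ (((k * t : Fˣ) : F)) * R.w _ _ (((k * u : Fˣ) : F)) = _
      rw [wS _ _ h, wS _ _ h, wS _ _ h, wS _ _ h, Data.S, ofHom_w_mul D.φ h, ofHom_w_mul D.φ h]
      congr 2
      rw [← mul_neg, mul_div_mul_left_eq_div]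
    | one => exact Commute.one_right _
    | mul x y _ _ ihx ihy => exact ihx.mul_right ihy
    | inv x _ ihx => exact ihx.inv_right
  let L : Subgroup Q :=
    { carrier := {g | ∃ A ∈ T, ∃ s, g = A * hp s}
      one_mem' := ⟨1, one_mem _, 1, by rw [hp_one, one_mul]⟩
      mul_mem' := by
        rintro _ _ ⟨A, hA, s, rfl⟩ ⟨B, hB, t, rfl⟩
        exact ⟨A * B, mul_mem hA hB, s * t, by
          rw [hp_mul, mul_assoc, ← mul_assoc (hp s), (hpT s B hB).eq]; group⟩
      inv_mem' := by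
        rintro _ ⟨A, hA, s, rfl⟩
        refine ⟨A⁻¹, inv_mem hA, s⁻¹, ?_⟩
        have e : hp s⁻¹ = (hp s)⁻¹ := eq_inv_of_mul_eq_one_left (by rw [← hp_mul, inv_mul_cancel, hp_one])
        rw [e, ((hpT s A hA).inv_inv).eq.symm, _root_.mul_inv_rev] }
  have hTL : ∀ g ∈ T, g ∈ L := fun g hg => ⟨g, hg, 1, by rw [hp_one, mul_one]⟩
  have normL : ∀ p q, p ≠ q → ∀ g ∈ L, R.w (.inl p) (.inl q) 1 * g * (R.w (.inl p) (.inl q) 1)⁻¹ ∈ L := by
    rintro p q h _ ⟨A, hA, s, rfl⟩
    set W := R.w (.inl p) (.inl q) 1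
    have h1 : W * A * W⁻¹ ∈ T := by
      refine (show T ≤ T.comap (MulAut.conj W).toMonoidHom from ?_) hA
      refine (Subgroup.closure_le _).2 ?_
      rintro _ ⟨i, j, hij, t, u, rfl⟩
      show W * (R.w _ _ _ * R.w _ _ _) * W⁻¹ ∈ T
      rw [← conj_mul, C.w_conj_w hn (a := Sum.inl p) (b := Sum.inl q) (c := Sum.inl i) (d := Sum.inl j) h hij,
        C.w_conj_w hn (a := Sum.inl p) (b := Sum.inl q) (c := Sum.inl i) (d := Sum.inl j) h hij]
      set k := wc (Sum.inl p) (Sum.inl q) (1 : F) (Sum.inl i) / wc (Sum.inl p) (Sum.inl q) 1 (Sum.inl j)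
      have hk : k ≠ 0 := div_ne_zero (left_ne_zero_of_mul (by
          rw [wc_mul (a := Sum.inl p) (b := Sum.inl q) h one_ne_zero]; exact one_ne_zero))
        (left_ne_zero_of_mul (by rw [wc_mul (a := Sum.inl p) (b := Sum.inl q) h one_ne_zero]; exact one_ne_zero))
      refine Subgroup.subset_closure ⟨Equiv.swap p q i, Equiv.swap p q j, (Equiv.injective _).ne hij,
        Units.mk0 k hk * t, Units.mk0 k hk * u, ?_⟩
      have hs : ∀ i, sw (Sum.inl p) (Sum.inl q) (Sum.inl i) = (Sum.inl (Equiv.swap p q i) : SIdx (m + 4)) :=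
        fun i => by
          simp only [sw, Equiv.Perm.mul_apply, ng, Sum.swap_inl, Equiv.swap_apply_def, Sum.inl.injEq, reduceCtorEq,
            if_false]
          split_ifs <;> rfl
      rw [hs, hs]
      rfl
    set k := kc s (Sum.inl p) / kc s (Sum.inl q) with hk
    have hk0 : k ≠ 0 := div_ne_zero (kc0 _ _) (kc0 _ _)
    have h2 : W * (hp s * W⁻¹ * (hp s)⁻¹) ∈ T := by
      rw [show hp s * W⁻¹ * (hp s)⁻¹ = (hp s * W * (hp s)⁻¹)⁻¹ by group,
        hp_w s (a := Sum.inl p) (b := Sum.inl q) h, mul_one, ← RelsD.w_neg R (a := Sum.inl p) (b := Sum.inl q) h]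
      exact Subgroup.subset_closure ⟨p, q, h, 1, -Units.mk0 k hk0, by simp [W, k]⟩
    exact ⟨W * A * W⁻¹ * (W * (hp s * W⁻¹ * (hp s)⁻¹)), mul_mem h1 h2, s, by group⟩
  let Ok : SIdx (m + 4) → SIdx (m + 4) → Prop := fun a b => ∀ t u : F, t ≠ 0 → u ≠ 0 → R.w a b t * R.w a b u ∈ L
  have move : ∀ p q, p ≠ q → ∀ c d, lv c ≠ lv d → Ok c d → Ok (sw (.inl p) (.inl q) c) (sw (.inl p) (.inl q) d) := by
    intro p q h c d hcd ok t u ht hu
    have h' : lv (Sum.inl p : SIdx (m + 4)) ≠ lv (Sum.inl q) := h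
    set k := wc (Sum.inl p) (Sum.inl q) (1 : F) c / wc (Sum.inl p) (Sum.inl q) 1 d with hk
    have hk0 : k ≠ 0 := div_ne_zero (left_ne_zero_of_mul (by rw [wc_mul h' one_ne_zero]; exact one_ne_zero))
      (left_ne_zero_of_mul (by rw [wc_mul h' one_ne_zero]; exact one_ne_zero))
    have e := normL p q h _ (ok (k⁻¹ * t) (k⁻¹ * u) (mul_ne_zero (inv_ne_zero hk0) ht)
      (mul_ne_zero (inv_ne_zero hk0) hu))
    rwa [← conj_mul, C.w_conj_w hn h' hcd, C.w_conj_w hn h' hcd, mul_inv_cancel_left₀ hk0,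
      mul_inv_cancel_left₀ hk0] at e
  have o20 : Ok (.inl (ix 2)) (.inr (ix 0)) := fun t u ht hu =>
    ⟨1, one_mem _, -Units.mk0 t ht / Units.mk0 u hu, by
      rw [one_mul, ← hp_ww]; rfl⟩
  have oi0 : ∀ i, i ≠ ix 0 → Ok (.inl i) (.inr (ix 0)) := by
    intro i hi
    rcases eq_or_ne i (ix 2) with e | e
    · subst e; exact o20
    · have := move i (ix 2) e (.inl (ix 2)) (.inr (ix 0)) h20 o20
      rwa [sw_right (a := Sum.inl i) (b := Sum.inl (ix 2)) e, sw_apply_of_ne (a := Sum.inl i) (b := Sum.inl (ix 2))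
        (c := Sum.inr (ix 0)) hi.symm h20.symm] at this
  have olr : ∀ i j, i ≠ j → Ok (.inl i) (.inr j) := by
    intro i j h
    rcases eq_or_ne j (ix 0) with e | e
    · subst e; exact oi0 i h
    rcases eq_or_ne i (ix 0) with e' | e'
    · subst e'
      intro t u ht hu
      have := oi0 j e (-t) (-u) (neg_ne_zero.2 ht) (neg_ne_zero.2 hu)
      rwa [← C.w_symm (a := Sum.inl j) (b := Sum.inr (ix 0)) e, ← C.w_symm (a := Sum.inl j) (b := Sum.inr (ix 0)) e]
        at this
    · have := move (ix 0) j e.symm (.inl i) (.inr (ix 0)) e' (oi0 i e')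
      rwa [sw_apply_of_ne (a := Sum.inl (ix 0)) (b := Sum.inl j) (c := Sum.inl i) e' h,
        show (Sum.inr (ix 0) : SIdx (m + 4)) = ng (Sum.inl (ix 0)) from rfl,
        sw_ng (a := Sum.inl (ix 0)) (b := Sum.inl j) e.symm, sw_left (a := Sum.inl (ix 0)) (b := Sum.inl j) e.symm]
        at this
  have oll : ∀ i j, i ≠ j → Ok (.inl i) (.inl j) := fun i j h t u ht hu =>
    hTL _ (Subgroup.subset_closure ⟨i, j, h, Units.mk0 t ht, Units.mk0 u hu, rfl⟩)
  have okAll : ∀ a b, lv a ≠ lv b → Ok a b := by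
    intro a b h
    rcases a with i | i <;> rcases b with j | j <;> change i ≠ j at h
    · exact oll i j h
    · exact olr i j h
    · intro t u ht hu
      have hl : lv (Sum.inr i : SIdx (m + 4)) ≠ lv (Sum.inl j) := h
      obtain ⟨c, hc1, hc2⟩ := RelsD.exists_third hn (Sum.inr i) (Sum.inl j)
      have sws : ∀ {t : F}, t ≠ 0 → R.w (Sum.inr i) (Sum.inl j) t = R.w (Sum.inl j) (Sum.inr i) (-t⁻¹) := by
        intro t ht
        exact (w_swap (R.tri hl hc2 hc1) (i := 0) (j := 1) (k := 2) (by decide) (by decide) (by decide) ht).symm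
      rw [sws ht, sws hu]
      exact olr j i h.symm _ _ (neg_ne_zero.2 (inv_ne_zero ht)) (neg_ne_zero.2 (inv_ne_zero hu))
    · intro t u ht hu
      have := oll j i h.symm (-t) (-u) (neg_ne_zero.2 ht) (neg_ne_zero.2 hu)
      rwa [← C.w_symm (a := Sum.inl j) (b := Sum.inl i) h.symm, ← C.w_symm (a := Sum.inl j) (b := Sum.inl i) h.symm]
        at this
  have hHL : C.H ≤ L := by
    rw [DCover.H, Subgroup.closure_le]
    rintro _ ⟨r, t, u, ht, hu, rfl⟩
    exact okAll _ _ r.ne t u ht hu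
  refine ⟨?_, ?_⟩
  · rw [← MonoidHom.ker_eq_bot_iff, eq_bot_iff]
    intro g hg
    obtain ⟨A₀, hA₀, s, rfl⟩ := hHL (C.ker_le_H hn hK (hC ▸ hg))
    obtain ⟨A, d, hA, rfl⟩ := hTφ A₀ hA₀
    rw [MonoidHom.mem_ker, map_mul, hφ] at hg
    have hd : ∀ p, d p * kc s (.inl p) = 1 := fun p => by
      have h := congrArg (fun g => act g (fun _ => (1 : F)) (Sum.inl p)) hg
      simp only [act_mul, act_one] at h
      rw [act_apply, emb_coe, hA] at h
      simpa [Matrix.mulVec, dotProduct, Fintype.sum_sum_type, diagonal, hp_act] using h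
    have k0 : ∀ p, kc s (.inl p) = if p = ix 2 ∨ p = ix 0 then (s : F) else 1 := by
      intro p
      simp only [kc, flip_inl]
      rcases eq_or_ne p (ix 0) with e | e
      · subst e
        simp only [true_or, or_true, if_true, Sum.elim_inr, cc, ix_inj, OfNat.zero_ne_ofNat, if_false, inv_inv]
      rcases eq_or_ne p (ix 1) with e1 | e1
      · subst e1
        simp only [or_true, if_true, Sum.elim_inr, cc, ix_inj, OfNat.one_ne_ofNat, one_ne_zero, if_false, inv_one,
          or_self]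
      rcases eq_or_ne p (ix 2) with e2 | e2
      · subst e2
        simp only [ix_inj, OfNat.ofNat_ne_zero, OfNat.ofNat_ne_one, or_self, or_true, true_or, if_true, if_false,
          Sum.elim_inl, cc]
      · rw [if_neg (not_or.2 ⟨e, e1⟩), if_neg (not_or.2 ⟨e2, e⟩), Sum.elim_inl, cc, if_neg e2, if_neg e]
    have hdet : (∏ p, d p) = 1 := by rw [← det_diagonal, ← hA]; exact A.2
    have hs2 : (s : F) * s = 1 := by
      have := congrArg₂ (· * ·) hdet (Finset.prod_eq_one (s := Finset.univ) fun p _ => hd p)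
      simp only [one_mul, Finset.prod_mul_distrib, hdet, k0] at this
      rw [Finset.prod_eq_mul (ix 2) (ix 0) h20 (fun c _ hc => if_neg (not_or.2 hc)) (by simp) (by simp),
        if_pos (Or.inl rfl), if_pos (Or.inr rfl)] at this
      exact this
    rw [Subgroup.mem_bot]
    rcases mul_self_eq_one_iff.1 hs2 with e | e
    · have hs : s = 1 := Units.ext (by rw [e, Units.val_one])
      subst hs
      have hA1 : A = 1 := Subtype.ext (by
        show A.1 = 1
        rw [hA, ← diagonal_one]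
        congr 1
        funext p
        have := hd p
        rw [k0, e, ite_self, mul_one] at this
        exact this)
      rw [hA1, map_one, hp_one, mul_one]
    · have hs : s = -1 := Units.ext (by rw [e, Units.val_neg, Units.val_one])
      have hA1 : A = hEl h20 (-1) := Subtype.ext (by
        show A.1 = diagonal _
        rw [hA]
        congr 1
        funext p
        have := hd p
        rw [k0, e] at this
        rcases eq_or_ne p (ix 2) with h | h
        · subst h
          rw [if_pos (Or.inl rfl)] at this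
          simp only [cc, if_true, Units.val_neg, Units.val_one]
          linear_combination -this
        rcases eq_or_ne p (ix 0) with h' | h'
        · subst h'
          rw [if_pos (Or.inr rfl)] at this
          simp only [cc, if_neg h, if_true, Units.val_neg, Units.val_one, inv_neg, inv_one]
          linear_combination -this
        · rw [if_neg (not_or.2 ⟨h, h'⟩), mul_one] at this
          simp only [cc, if_neg h, if_neg h', this])
      have hN2 : D.φ (hEl h20 (-1)) = D.NN * D.NN := by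
        have h := ofHom_w_mul D.φ h20 1 1
        rw [Units.val_one, div_one] at h
        exact h.symm
      have hN4 : D.NN * D.NN * (D.NN * D.NN) = 1 := by
        rw [← hN2, ← map_mul, ← hEl_mul, show (-1 : Fˣ) * -1 = 1 by simp]
        have : hEl h20 (1 : Fˣ) = 1 := by
          have := hEl_mul h20 (1 : Fˣ) 1
          rw [one_mul] at this
          exact left_eq_mul.1 this
        rw [this, map_one]
      have hu2 : D.uu * D.uu = 1 := by
        rw [Data.uu, show ∀ g w : Q, g * w * g⁻¹ * (g * w * g⁻¹) = g * (w * w) * g⁻¹ from fun g w => by group, D.w2]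
        group
      rw [hA1, hs]
      simp only [hp]
      rw [hN2, map_mul]
      show D.NN * D.NN * (D.Np * D.Np) = 1
      rw [show D.uu = D.NN * D.NN * D.NN * D.Np from D.hu] at hu2
      have c3 : Commute (D.NN * D.NN * D.NN) D.Np := (hNN.mul_left hNN).mul_left hNN
      calc D.NN * D.NN * (D.Np * D.Np)
          = (D.NN * D.NN * (D.NN * D.NN)) * (D.NN * D.NN) * (D.Np * D.Np) := by rw [hN4, one_mul]
        _ = D.NN * D.NN * D.NN * (D.NN * D.NN * D.NN * D.Np) * D.Np := by group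
        _ = D.NN * D.NN * D.NN * (D.Np * (D.NN * D.NN * D.NN)) * D.Np := by rw [c3.eq]
        _ = D.NN * D.NN * D.NN * D.Np * (D.NN * D.NN * D.NN * D.Np) := by group
        _ = 1 := hu2
  · refine le_antisymm ?_ (omega_le hn fun a b h t => ⟨R.x a b t, hC ▸ C.map_x a b h t⟩)
    rw [MonoidHom.range_eq_map, ← hK, MonoidHom.map_closure, Subgroup.closure_le]
    rintro _ ⟨_, ⟨a, b, h, t, rfl⟩, rfl⟩
    rw [← hC, C.map_x a b h t]
    exact E_mem_omega hn a b t

end Cfsg.Agent.OmegaPres
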