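import Cfsg.Agent.Lib.OmegaPres.Derive
import Cfsg.Agent.Lib.CurtisTits.DMono

/-!
The model: `SL n` on a maximal totally singular pair of subspaces and the flip of the planes `0` and `1`.
-/

set_option autoImplicit false

namespace Cfsg.Agent.OmegaPres

open Matrix SL2Presentation CurtisTits CurtisTits.DType CurtisTits.DModel
open Cfsg.Agent.MaxCl
open scoped MatrixGroups

variable {F : Type*} [Field F] {n : ℕ}

/-- The block embedding. -/
def embM : SpecialLinearGroup (Fin n) F →* Matrix (SIdx n) (SIdx n) F where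
  toFun A := fromBlocks A.1 0 0 ((A⁻¹ : SpecialLinearGroup (Fin n) F).1)ᵀ
  map_one' := by simp
  map_mul' A B := by
    rw [fromBlocks_multiply]
    simp [_root_.mul_inv_rev, SpecialLinearGroup.coe_mul, transpose_mul]

/-- The embedding of `SL n` in the orthogonal group. -/
def emb : SpecialLinearGroup (Fin n) F →* GL (SIdx n) F := embM.toHomUnits

theorem emb_coe (A : SpecialLinearGroup (Fin n) F) :
    (emb A : Matrix (SIdx n) (SIdx n) F) = fromBlocks A.1 0 0 ((A⁻¹ : SpecialLinearGroup (Fin n) F).1)ᵀ := rfl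

theorem emb_T {i j : Fin n} (h : i ≠ j) (t : F) :
    emb (SpecialLinearGroup.transvection h t) = E (.inl i) (.inl j) t := by
  refine E_ext fun x p => ?_
  rw [act_E (show lv (.inl i : SIdx n) ≠ lv (.inl j) from h), act_apply, emb_coe,
    SpecialLinearGroup.transvection_inv, SpecialLinearGroup.transvection_coe,
    SpecialLinearGroup.transvection_coe]
  rcases p with p | p
  · simp [Matrix.mulVec, dotProduct, Fintype.sum_sum_type, Matrix.one_apply, Matrix.single_apply, add_mul,
      Finset.sum_add_distrib, eq_comm]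
    by_cases hp : i = p <;> simp [hp]
  · simp [Matrix.mulVec, dotProduct, Fintype.sum_sum_type, Matrix.one_apply, Matrix.single_apply, add_mul,
      Finset.sum_add_distrib, eq_comm, sub_eq_add_neg]
    by_cases hp : j = p <;> simp [hp]

theorem emb_hEl_act {i j : Fin n} (h : i ≠ j) (a : Fˣ) (x : SIdx n → F) (p : SIdx n) :
    act (emb (hEl h a)) x p = Sum.elim (cc i j (a : F)) (fun q => (cc i j (a : F) q)⁻¹) p * x p := by
  have e : (hEl h a)⁻¹ = hEl h a⁻¹ := inv_eq_of_mul_eq_one_right (by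
    rw [← hEl_mul, mul_inv_cancel]
    apply Subtype.ext
    rw [hEl_coe]
    ext r s
    simp [cc, diagonal, Matrix.one_apply])
  rw [act_apply, emb_coe, e, hEl_coe, hEl_coe, diagonal_transpose, fromBlocks_diagonal, mulVec_diagonal]
  rcases p with p | p <;> simp [cc]
  split_ifs <;> simp

variable {m : ℕ}

/-- The flip permutation. -/
def flipPerm (m : ℕ) : Equiv.Perm (SIdx (m + 4)) :=
  Equiv.swap (.inl (ix 0)) (.inr (ix 0)) * Equiv.swap (.inl (ix 1)) (.inr (ix 1))

theorem flip_inl (p : Fin (m + 4)) :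
    flipPerm m (.inl p) = if p = ix 0 ∨ p = ix 1 then .inr p else .inl p := by
  simp only [flipPerm, Equiv.Perm.mul_apply, Equiv.swap_apply_def]
  split_ifs <;> simp_all

theorem flip_inr (p : Fin (m + 4)) :
    flipPerm m (.inr p) = if p = ix 0 ∨ p = ix 1 then .inl p else .inr p := by
  simp only [flipPerm, Equiv.Perm.mul_apply, Equiv.swap_apply_def]
  split_ifs <;> simp_all

theorem flip_ng (p : SIdx (m + 4)) : flipPerm m (ng p) = ng (flipPerm m p) := by
  rcases p with p | p <;> simp only [ng, Sum.swap_inl, Sum.swap_inr, flip_inl, flip_inr] <;> split_ifs <;> rfl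

theorem flip_flip (p : SIdx (m + 4)) : flipPerm m (flipPerm m p) = p := by
  rcases p with p | p <;> by_cases h : p = ix 0 ∨ p = ix 1
  · rw [flip_inl, if_pos h, flip_inr, if_pos h]
  · rw [flip_inl, if_neg h, flip_inl, if_neg h]
  · rw [flip_inr, if_pos h, flip_inl, if_pos h]
  · rw [flip_inr, if_neg h, flip_inr, if_neg h]

theorem flipMat_sq : ((flipPerm m).permMatrix F) * ((flipPerm m).permMatrix F) = 1 := by
  rw [← Matrix.permMatrix_mul, show flipPerm m * flipPerm m = 1 from Equiv.ext flip_flip, Matrix.permMatrix_one]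

variable (F m)

/-- The flip of the planes `0` and `1`. -/
def flipGL : GL (SIdx (m + 4)) F :=
  ⟨(flipPerm m).permMatrix F, (flipPerm m).permMatrix F, flipMat_sq, flipMat_sq⟩

variable {F m}

theorem flip_sq : flipGL F m * flipGL F m = 1 := Units.ext flipMat_sq

theorem act_flip (x : SIdx (m + 4) → F) (p : SIdx (m + 4)) : act (flipGL F m) x p = x (flipPerm m p) := by
  rw [act_apply]
  show ((flipPerm m).permMatrix F *ᵥ x) p = _
  rw [Equiv.Perm.permMatrix, PEquiv.toMatrix_toPEquiv_mulVec]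
  rfl

theorem mono_flip : Mono (flipGL F m) (flipPerm m) (fun _ => 1) := fun x p => by
  rw [act_flip, flip_flip, one_mul]

theorem flip_E {a b : SIdx (m + 4)} (h : lv a ≠ lv b) (t : F) :
    flipGL F m * E a b t * (flipGL F m)⁻¹ = E (flipPerm m a) (flipPerm m b) t := by
  rw [mono_flip.conj flip_ng (fun _ => one_mul 1) h]
  simp

theorem flip_w {a b : SIdx (m + 4)} (h : lv a ≠ lv b) (t : F) :
    flipGL F m * (model F (m + 4)).w a b t * (flipGL F m)⁻¹ =
      (model F (m + 4)).w (flipPerm m a) (flipPerm m b) t := by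
  show flipGL F m * (E a b t * E b a (-t⁻¹) * E a b t) * (flipGL F m)⁻¹ = _
  rw [← conj_mul, ← conj_mul, flip_E h, flip_E h.symm]
  rfl

theorem ofHom_emb_x {i j : Fin n} (h : i ≠ j) (t : F) :
    (ofHom (emb (F := F) (n := n))).x i j t = E (.inl i) (.inl j) t := by
  rw [ofHom_x _ h, emb_T h]

theorem ofHom_emb_w {i j : Fin n} (h : i ≠ j) (t : F) :
    (ofHom (emb (F := F) (n := n))).w i j t = (model F n).w (.inl i) (.inl j) t := by
  simp only [Rels.w, ofHom_emb_x h, ofHom_emb_x h.symm]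
  rfl

theorem ix_inj {k l : ℕ} {hk : k < 4} {hl : l < 4} : (ix k hk : Fin (m + 4)) = ix l hl ↔ k = l :=
  ⟨fun e => congrArg Fin.val e, fun e => Fin.ext e⟩

/-- The defining relation of `w` holds in the model. -/
theorem flip_hu :
    (ofHom (emb (F := F) (n := m + 4))).w (ix 2) (ix 1) 1 * flipGL F m *
        ((ofHom (emb (F := F) (n := m + 4))).w (ix 2) (ix 1) 1)⁻¹ =
      (ofHom (emb (F := F) (n := m + 4))).w (ix 2) (ix 0) 1 * (ofHom (emb (F := F) (n := m + 4))).w (ix 2) (ix 0) 1 *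
        (ofHom (emb (F := F) (n := m + 4))).w (ix 2) (ix 0) 1 *
        (flipGL F m * (ofHom (emb (F := F) (n := m + 4))).w (ix 2) (ix 0) 1 * (flipGL F m)⁻¹) := by
  have h21 : (ix 2 : Fin (m + 4)) ≠ ix 1 := by simp [Fin.ext_iff]
  have h20 : (ix 2 : Fin (m + 4)) ≠ ix 0 := by simp [Fin.ext_iff]
  have l21 : lv (.inl (ix 2) : SIdx (m + 4)) ≠ lv (.inl (ix 1)) := h21
  have l20 : lv (.inl (ix 2) : SIdx (m + 4)) ≠ lv (.inl (ix 0)) := h20
  have l20' : lv (.inl (ix 2) : SIdx (m + 4)) ≠ lv (.inr (ix 0)) := h20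
  have f2 : flipPerm m (.inl (ix 2)) = .inl (ix 2) := by rw [flip_inl]; simp [Fin.ext_iff]
  have f0 : flipPerm m (.inl (ix 0)) = .inr (ix 0) := by rw [flip_inl]; simp [Fin.ext_iff]
  rw [mul_inv_eq_iff_eq_mul, ofHom_emb_w h21, ofHom_emb_w h20, flip_w l20, f2, f0]
  have hL := (mono_w (F := F) l21 one_ne_zero).mul mono_flip
  have hN := mono_w (F := F) l20 one_ne_zero
  have hR := (((hN.mul hN).mul hN).mul (mono_w (F := F) l20' one_ne_zero)).mul
    (mono_w (F := F) l21 one_ne_zero)
  refine E_ext fun x p => ?_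
  obtain ⟨q, rfl⟩ := (sw (.inl (ix 2)) (.inl (ix 1)) * flipPerm m).surjective p
  rw [hL x q]
  set a2 : SIdx (m + 4) := .inl (ix 2)
  set a1 : SIdx (m + 4) := .inl (ix 1)
  set a0 : SIdx (m + 4) := .inl (ix 0)
  set b0 : SIdx (m + 4) := .inr (ix 0)
  have hσ : (sw a2 a1 * flipPerm m) q = (sw a2 a0 * sw a2 a0 * sw a2 a0 * sw a2 b0 * sw a2 a1) q := by
    rcases q with q | q <;> rcases eq_or_ne q (ix 0) with rfl | h0 <;>
      (try rcases eq_or_ne q (ix 1) with rfl | h1) <;> (try rcases eq_or_ne q (ix 2) with rfl | h2) <;>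
      simp only [a0, a1, a2, b0, sw, Equiv.Perm.mul_apply, flip_inl, flip_inr, Equiv.swap_apply_def, ng,
        Sum.swap_inl, Sum.swap_inr, Sum.inl.injEq, Sum.inr.injEq, reduceCtorEq, ix_inj, Nat.succ_ne_zero,
        OfNat.ofNat_ne_zero, OfNat.zero_ne_ofNat, OfNat.ofNat_ne_one, OfNat.one_ne_ofNat, one_ne_zero, zero_ne_one,
        or_true, true_or, or_self, if_true, if_false, *]
  rw [hσ, hR x q]
  congr 1
  rcases q with q | q <;> rcases eq_or_ne q (ix 0) with rfl | h0 <;>
    (try rcases eq_or_ne q (ix 1) with rfl | h1) <;> (try rcases eq_or_ne q (ix 2) with rfl | h2) <;>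
    simp only [a0, a1, a2, b0, wc, sw, Equiv.Perm.mul_apply, flip_inl, flip_inr, Equiv.swap_apply_def, ng,
      Sum.swap_inl, Sum.swap_inr, Sum.inl.injEq, Sum.inr.injEq, reduceCtorEq, ix_inj, Nat.succ_ne_zero,
      OfNat.ofNat_ne_zero, OfNat.zero_ne_ofNat, OfNat.ofNat_ne_one, OfNat.one_ne_ofNat, one_ne_zero, zero_ne_one,
      or_true, true_or, or_self, if_true, if_false, inv_one, neg_neg, mul_one, one_mul, mul_neg, neg_mul, *]

end Cfsg.Agent.OmegaPres
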