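import Cfsg.Agent.Lib.OmegaPres.TwoGen
import Cfsg.Agent.Lib.OmegaPres.Derive
import Cfsg.Agent.S2278

/-!
Generators of `SL 2 × SL (n - 2)` inside `SL n`.
-/

set_option autoImplicit false
set_option linter.unusedSectionVars false

namespace Cfsg.Agent.OmegaPres

open Matrix SL2Presentation BoundedPres
open scoped MatrixGroups commutatorElement

variable {F : Type*} [Field F] [Fintype F]

/-- A normal subgroup with a noncentral element of a perfect `SL` is everything. -/
theorem normal_top {ι : Type*} [Fintype ι] [DecidableEq ι] [Nontrivial ι]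
    (hperf : commutator (SpecialLinearGroup ι F) = ⊤) (N : Subgroup (SpecialLinearGroup ι F)) [N.Normal]
    {g : SpecialLinearGroup ι F} (hg : g ∈ N) (hgc : g ∉ Subgroup.center (SpecialLinearGroup ι F)) : N = ⊤ := by
  have := GL.PSL_isSimpleGroup_of_commutator hperf
  set π := QuotientGroup.mk' (Subgroup.center (SpecialLinearGroup ι F))
  have hn : (N.map π).Normal := Subgroup.Normal.map inferInstance π (QuotientGroup.mk'_surjective _)
  have htop : N.map π = ⊤ := hn.eq_bot_or_eq_top.resolve_left fun h => hgc (by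
    have : π g ∈ N.map π := ⟨g, hg, rfl⟩
    rw [h, Subgroup.mem_bot] at this
    exact (QuotientGroup.eq_one_iff g).1 this)
  have hdec : ∀ x, ∃ a ∈ N, ∃ z ∈ Subgroup.center (SpecialLinearGroup ι F), x = a * z := fun x => by
    obtain ⟨a, ha, e⟩ := (htop.symm ▸ Subgroup.mem_top (π x) : π x ∈ N.map π)
    exact ⟨a, ha, a⁻¹ * x, QuotientGroup.eq.1 e, by group⟩
  rw [eq_top_iff, ← hperf, commutator_def, Subgroup.commutator_le]
  intro x _ y _
  obtain ⟨a, ha, z, hz, rfl⟩ := hdec x
  obtain ⟨b, hb, z', hz', rfl⟩ := hdec y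
  have c1 : ∀ w, w * z = z * w := Subgroup.mem_center_iff.1 hz
  have c2 : ∀ w, w * z' = z' * w := Subgroup.mem_center_iff.1 hz'
  have e : ⁅a * z, b * z'⁆ = ⁅a, b⁆ :=
    calc ⁅a * z, b * z'⁆ = a * (z * b) * z' * z⁻¹ * a⁻¹ * z'⁻¹ * b⁻¹ := by rw [commutatorElement_def]; group
      _ = a * b * (z * z') * z⁻¹ * a⁻¹ * z'⁻¹ * b⁻¹ := by rw [← c1 b]; group
      _ = a * b * z' * a⁻¹ * z'⁻¹ * b⁻¹ := by rw [← c1 z']; group
      _ = a * b * (z' * a⁻¹) * z'⁻¹ * b⁻¹ := by group
      _ = ⁅a, b⁆ := by rw [← c2 a⁻¹, commutatorElement_def]; group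
  rw [e, commutatorElement_def]
  exact mul_mem (mul_mem (mul_mem ha hb) (inv_mem ha)) (inv_mem hb)

/-- A pair of `SL 2` with an exponent of the second element which is harmless for the other factor. -/
theorem sl2_pair : ∃ (a b : SL(2, F)) (N : ℕ), Subgroup.closure ({a, b} : Set SL(2, F)) = ⊤ ∧ b ^ N = 1 ∧
    ¬ ((N : F) = 0 ∧ ∀ c : Fˣ, c ^ N = 1) := by
  classical
  obtain ⟨ω, hω⟩ := IsCyclic.exists_generator (α := Fˣ)
  have hord : orderOf ω = Fintype.card F - 1 := by
    rw [orderOf_eq_card_of_forall_mem_zpowers hω, Nat.card_eq_fintype_card, Fintype.card_units]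
  have hω1 : ω ^ (Fintype.card F - 1) = 1 := hord ▸ pow_orderOf_eq_one ω
  by_cases h2 : (2 : F) = 0
  · have : CharP F 2 := CharTwo.of_one_ne_zero_of_two_eq_zero one_ne_zero h2
    have hr : ringChar F = 2 := ringChar.eq F 2
    by_cases hq : Fintype.card F = 2
    · refine ⟨uL 1, uL 1 * tL, 3, ?_, ?_, fun h => ?_⟩
      · set H := Subgroup.closure ({uL (1 : F), uL 1 * tL} : Set SL(2, F))
        have hu : uL (1 : F) ∈ H := Subgroup.subset_closure (Or.inl rfl)
        have ht : tL ∈ H := by
          have := mul_mem (inv_mem hu) (Subgroup.subset_closure (Or.inr rfl) : uL (1 : F) * tL ∈ H)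
          rwa [inv_mul_cancel_left] at this
        have hall : ∀ x : F, x = 0 ∨ x = 1 := fun x => by
          by_contra h
          rw [not_or] at h
          have := Finset.card_le_univ ({0, 1, x} : Finset F)
          rw [Finset.card_insert_of_notMem (by simp [Ne.symm h.1]), Finset.card_insert_of_notMem
            (by simp [Ne.symm h.2]), Finset.card_singleton, hq] at this
          omega
        refine closure_eq_top ω hω H (fun x => ?_) ?_ ht
        · rcases hall x with rfl | rfl
          · rw [uL_zero]; exact one_mem _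
          · exact hu
        · rw [show ω = 1 from Units.ext ((hall ω).resolve_left ω.ne_zero), map_one]; exact one_mem _
      · apply Subtype.ext
        rw [pow_succ, pow_succ, pow_one, mul_val, mul_val, mul_val]
        ext i j
        fin_cases i <;> fin_cases j <;> simp [uL, tL, Matrix.mul_apply, Fin.sum_univ_two, CharTwo.neg_eq, one_add_one_eq_two, h2]
      · have h3 := h.1
        rw [show ((3 : ℕ) : F) = 2 + 1 by norm_num, h2, zero_add] at h3
        exact one_ne_zero h3
    · refine ⟨uL 1 * tL, dL ω, Fintype.card F - 1, ?_, by rw [← map_pow, hω1, map_one], fun h => ?_⟩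
      · set b : SL(2, F) := uL 1 * tL with hbdef
        set H := Subgroup.closure ({b, dL ω} : Set SL(2, F))
        have hd : dL ω ∈ H := Subgroup.subset_closure (Or.inr rfl)
        have hb : b ∈ H := Subgroup.subset_closure (Or.inl rfl)
        set e : F := (ω : F) ^ 2 + 1 with he
        have hu : uL e ∈ H := by
          have h1 : uL e * b = dL ω * (b * dL ω) := by
            apply Subtype.ext
            show _ * (_ * _) = _ * ((_ * _) * _)
            rw [uL_val, uL_val, dL_coe]
            show !![1, e; 0, 1] * (!![1, (1 : F); 0, 1] * !![0, 1; -1, 0]) = _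
            rw [show (tL : SL(2, F)).1 = !![0, 1; -1, 0] from rfl]
            ext i j; fin_cases i <;> fin_cases j <;>
              simp [Matrix.mul_apply, Fin.sum_univ_two, CharTwo.neg_eq, e] <;> ring_nf
            · rw [h2]; simp
          have := H.mul_mem (H.mul_mem hd (H.mul_mem hb hd)) (H.inv_mem hb)
          rwa [← h1, mul_inv_cancel_right] at this
        have he0 : e ≠ 0 := by
          intro h0
          have h3 : ω ^ 2 = 1 := Units.ext (by
            rw [Units.val_pow_eq_pow_val, Units.val_one]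
            linear_combination h0 - h2)
          have := Nat.le_of_dvd two_pos (hord ▸ orderOf_dvd_of_pow_eq_one h3)
          have hev := FiniteField.even_card_of_char_two hr
          have := Fintype.one_lt_card (α := F)
          omega
        have hdd : ∀ c : Fˣ, dL c ∈ H := fun c => by
          obtain ⟨k, rfl⟩ := hω c
          simp only [map_zpow]
          exact zpow_mem hd k
        have hU : ∀ x, uL x ∈ H := by
          intro x
          obtain ⟨c, hc⟩ := FiniteField.isSquare_of_char_two hr (x / e)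
          rcases eq_or_ne c 0 with rfl | hc0
          · rw [mul_zero, div_eq_zero_iff] at hc
            rw [hc.resolve_right he0, uL_zero]
            exact one_mem _
          · have := H.mul_mem (H.mul_mem (hdd (Units.mk0 c hc0)) hu) (H.inv_mem (hdd (Units.mk0 c hc0)))
            rw [dL_conj, Units.val_mk0] at this
            rwa [show c ^ 2 * e = x by rw [sq, ← hc, div_mul_cancel₀ _ he0]] at this
        refine closure_eq_top ω hω H hU hd ?_
        have := H.mul_mem (H.inv_mem (hU 1)) hb
        rwa [hbdef, inv_mul_cancel_left] at this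
      · have h1 := h.1
        rw [Nat.cast_sub Fintype.card_pos, FiniteField.cast_card_eq_zero, Nat.cast_one, zero_sub, neg_eq_zero] at h1
        exact one_ne_zero h1
  · obtain ⟨p, hc⟩ := CharP.exists F
    have hp : p.Prime := CharP.char_is_prime F p
    have hgen : Subfield.closure ({(ω : F)} : Set F) = ⊤ := by
      rw [eq_top_iff]
      intro x _
      rcases eq_or_ne x 0 with rfl | hx
      · exact zero_mem _
      · obtain ⟨k, hk⟩ := hω (Units.mk0 x hx)
        have h := congrArg Units.val hk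
        simp only [Units.val_zpow_eq_zpow_val, Units.val_mk0] at h
        rw [← h]
        exact zpow_mem (Subfield.subset_closure (s := {(ω : F)}) rfl) k
    rcases Cfsg.Agent.S0801.result h2 (ω : F) ω.ne_zero hgen with ⟨h, -⟩ | ⟨h9, hsq, -⟩
    · refine ⟨⟨!![1, 0; 1, 1], by simp [det_fin_two]⟩, uL (ω : F), p, ?_, ?_, fun h' => ?_⟩
      · rw [eq_top_iff, ← h]
        refine Subgroup.closure_mono ?_
        rintro g (hg | hg)
        · exact Or.inl (Subtype.ext hg)
        · exact Or.inr (Subtype.ext hg)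
      · rw [← uL_nsmul, CharP.cast_eq_zero, zero_mul, uL_zero]
      · have hdvd : Fintype.card F - 1 ∣ p := hord ▸ orderOf_dvd_of_pow_eq_one (h'.2 ω)
        have hr : ringChar F ≠ 2 := fun e => h2 (by
          have := ringChar.Nat.cast_ringChar (R := F)
          rw [e] at this
          exact_mod_cast this)
        have hodd := FiniteField.odd_card_of_char_ne_two hr
        have h2p : 2 ∣ p := dvd_trans (by omega) hdvd
        have hp2 : p = 2 := ((Nat.prime_dvd_prime_iff_eq Nat.prime_two hp).1 h2p).symm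
        subst hp2
        exact h2 (by exact_mod_cast CharP.cast_eq_zero F 2)
    · exfalso
      have h4 : ω ^ 4 = 1 := Units.ext (by
        rw [Units.val_pow_eq_pow_val, Units.val_one]
        linear_combination ((ω : F) ^ 2 - 1) * hsq)
      have := Nat.le_of_dvd (by norm_num) (hord ▸ orderOf_dvd_of_pow_eq_one h4)
      omega

/-- Two generators of the product. -/
theorem prod_two (k : ℕ) : ∃ g h : SL(2, F) × SpecialLinearGroup (Fin (k + 4)) F,
    Subgroup.closure ({g, h} : Set (SL(2, F) × SpecialLinearGroup (Fin (k + 4)) F)) = ⊤ := by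
  obtain ⟨a₁, b₁, N, h1, hN, hbad⟩ := sl2_pair (F := F)
  obtain ⟨a₂, b₂, h2, hpow⟩ := two_gen_pow (F := F) k
  refine ⟨(a₁, a₂), (b₁, b₂), ?_⟩
  set H := Subgroup.closure ({(a₁, a₂), (b₁, b₂)} : Set (SL(2, F) × SpecialLinearGroup (Fin (k + 4)) F))
  have hsurj2 : ∀ y, ∃ x, (x, y) ∈ H := fun y => by
    have : H.map (MonoidHom.snd _ _) = ⊤ := by
      rw [MonoidHom.map_closure, eq_top_iff, ← h2]
      exact Subgroup.closure_mono (by simp [Set.image_insert_eq])
    obtain ⟨⟨x, y'⟩, hxy, e⟩ := (this.symm ▸ Subgroup.mem_top y : y ∈ H.map (MonoidHom.snd _ _))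
    obtain rfl : y' = y := e
    exact ⟨x, hxy⟩
  let K : Subgroup (SpecialLinearGroup (Fin (k + 4)) F) := H.comap (MonoidHom.inr _ _)
  have hKn : K.Normal := ⟨fun y hy g => by
    obtain ⟨x, hx⟩ := hsurj2 g
    have := mul_mem (mul_mem hx hy) (inv_mem hx)
    show (1, g * y * g⁻¹) ∈ H
    simpa using this⟩
  have : Nontrivial (Fin (k + 4)) := Fin.nontrivial_iff_two_le.2 (by omega)
  have hK : K = ⊤ := by
    refine normal_top (GL.SL_commutator_eq_top_of_three_le (by simp)) K (g := b₂ ^ N) ?_ fun h => hbad (hpow N h)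
    show (1, b₂ ^ N) ∈ H
    have := pow_mem (Subgroup.subset_closure (Or.inr rfl) : (b₁, b₂) ∈ H) N
    rwa [Prod.pow_mk, hN] at this
  have hr : ∀ y, ((1 : SL(2, F)), y) ∈ H := fun y => (hK.symm ▸ Subgroup.mem_top y : y ∈ K)
  have hl : ∀ x, (x, (1 : SpecialLinearGroup (Fin (k + 4)) F)) ∈ H := fun x => by
    have hm : H.comap (MonoidHom.inl _ _) = ⊤ := by
      rw [eq_top_iff, ← h1, Subgroup.closure_le]
      rintro z (rfl | rfl)
      · show (z, (1 : SpecialLinearGroup (Fin (k + 4)) F)) ∈ H
        have := mul_mem (Subgroup.subset_closure (Or.inl rfl) : (z, a₂) ∈ H) (inv_mem (hr a₂))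
        simpa using this
      · show (z, (1 : SpecialLinearGroup (Fin (k + 4)) F)) ∈ H
        have := mul_mem (Subgroup.subset_closure (Or.inr rfl) : (z, b₂) ∈ H) (inv_mem (hr b₂))
        simpa using this
    exact (hm.symm ▸ Subgroup.mem_top x : x ∈ H.comap (MonoidHom.inl _ _))
  rw [eq_top_iff]
  rintro ⟨x, y⟩ -
  simpa using mul_mem (hl x) (hr y)

/-- A generating pair of `SL 2` with the first member normally generating. -/
theorem sl2_mover : ∃ x g : SL(2, F),
    ∀ N : Subgroup SL(2, F), (∀ y ∈ N, g * y * g⁻¹ ∈ N) → x ∈ N → N = ⊤ ∨ (4 ≤ Fintype.card F ∧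
      Subgroup.closure ({x, g} : Set SL(2, F)) = ⊤ ∧ x ∉ Subgroup.center SL(2, F)) := by
  classical
  by_cases hq : 4 ≤ Fintype.card F
  · obtain ⟨a, b, h⟩ := two_gen_two hq
    refine ⟨a, b, fun N _ _ => Or.inr ⟨hq, h, fun ha => ?_⟩⟩
    obtain ⟨u, hu, hu'⟩ := GL.exists_sq_ne_one_of_four_le_card (F := F) (by rwa [Nat.card_eq_fintype_card])
    have hle : (⊤ : Subgroup SL(2, F)) ≤ Subgroup.centralizer {b} := by
      rw [← h, Subgroup.closure_le]
      rintro z (rfl | rfl) <;> rw [SetLike.mem_coe, Subgroup.mem_centralizer_singleton_iff]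
      exact (Subgroup.mem_center_iff.1 ha _).symm
    have hb : b ∈ Subgroup.center SL(2, F) := Subgroup.mem_center_iff.2 fun z =>
      Subgroup.mem_centralizer_singleton_iff.1 (hle (Subgroup.mem_top z))
    have hc : (⊤ : Subgroup SL(2, F)) ≤ Subgroup.center SL(2, F) := by
      rw [← h, Subgroup.closure_le]
      rintro z (rfl | rfl)
      exacts [ha, hb]
    have h1 := Subgroup.mem_center_iff.1 (hc (Subgroup.mem_top (uL (1 : F)))) (dL (Units.mk0 u hu))
    have h2 := dL_conj (Units.mk0 u hu) (1 : F)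
    rw [h1, mul_inv_cancel_right] at h2
    have h3 := congrFun (congrFun (congrArg Subtype.val h2) 0) 1
    simp [uL] at h3
    exact hu' h3.symm
  · refine ⟨uL 1, tL, fun N hN hx => Or.inl ?_⟩
    obtain ⟨ω, hω⟩ := IsCyclic.exists_generator (α := Fˣ)
    have hcard : Fintype.card F ≤ 3 := by omega
    have hcast : ∀ x : F, ∃ j : ℕ, x = (j : F) := by
      intro x
      obtain ⟨p, hc⟩ := CharP.exists F
      have hp : p.Prime := CharP.char_is_prime F p
      obtain ⟨d, -, hd⟩ := FiniteField.card F p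
      have hd1 : (d : ℕ) = 1 := by
        by_contra h
        have : 2 ≤ (d : ℕ) := by have := d.pos; omega
        have := Nat.pow_le_pow_right hp.pos this
        have := hp.two_le
        nlinarith
      have : NeZero p := ⟨hp.ne_zero⟩
      haveI : Fact p.Prime := ⟨hp⟩
      obtain ⟨z, hz⟩ := ((Fintype.bijective_iff_injective_and_card (ZMod.castHom (dvd_refl p) F)).2
        ⟨(ZMod.castHom (dvd_refl p) F).injective, by rw [ZMod.card, hd, hd1, pow_one]⟩).2 x
      exact ⟨z.val, by rw [← hz, ← ZMod.natCast_zmod_val z, map_natCast]; simp⟩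
    have hu : ∀ x, uL x ∈ N := fun x => by
      obtain ⟨j, rfl⟩ := hcast x
      rw [← mul_one (j : F), uL_nsmul]
      exact pow_mem hx j
    have hl : ∀ x, tL * uL x * tL⁻¹ ∈ N := fun x => hN _ (hu x)
    have ht : tL ∈ N := by
      have e : (tL : SL(2, F)) = uL 1 * (tL * uL 1 * tL⁻¹) * uL 1 := by
        apply Subtype.ext
        rw [mul_val, mul_val, mul_val, mul_val, Matrix.SpecialLinearGroup.coe_inv]
        ext i j
        fin_cases i <;> fin_cases j <;> simp [uL, tL, Matrix.mul_apply, Fin.sum_univ_two, adjugate_fin_two]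
      rw [e]
      exact mul_mem (mul_mem (hu 1) (hl 1)) (hu 1)
    refine closure_eq_top ω hω N hu ?_ ht
    have hω' : (ω : F) = 1 ∨ (ω : F) = -1 := by
      have hpow : (ω : F) ^ (Fintype.card F - 1) = 1 := FiniteField.pow_card_sub_one_eq_one _ ω.ne_zero
      have := Fintype.one_lt_card (α := F)
      rcases (show Fintype.card F - 1 = 1 ∨ Fintype.card F - 1 = 2 by omega) with e | e <;> rw [e] at hpow
      · exact Or.inl (by simpa using hpow)
      · exact sq_eq_one_iff.1 hpow
    rcases hω' with e | e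
    · rw [show ω = 1 from Units.ext e, map_one]; exact one_mem _
    · rw [show ω = -1 from Units.ext (by rw [e]; simp), ← tL_sq]; exact mul_mem ht ht

/-- Three generators of the product, when the second factor has a normally generating member in a pair. -/
theorem prod_three {B : Type*} [Group B] {u h : B}
    (hnc : ∀ N : Subgroup B, (∀ y ∈ N, h * y * h⁻¹ ∈ N) → u ∈ N → N = ⊤) :
    ∃ g₁ g₂ g₃ : SL(2, F) × B, Subgroup.closure ({g₁, g₂, g₃} : Set (SL(2, F) × B)) = ⊤ := by
  obtain ⟨x, g, hmv⟩ := sl2_mover (F := F)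
  refine ⟨(x, 1), (1, u), (g, h), ?_⟩
  set H := Subgroup.closure ({(x, 1), (1, u), (g, h)} : Set (SL(2, F) × B))
  have hg : (g, h) ∈ H := Subgroup.subset_closure (by simp)
  let N₁ : Subgroup SL(2, F) := H.comap (MonoidHom.inl _ _)
  let N₂ : Subgroup B := H.comap (MonoidHom.inr _ _)
  have h2 : N₂ = ⊤ := by
    refine hnc N₂ (fun y hy => ?_) (Subgroup.subset_closure (by simp) : ((1 : SL(2, F)), u) ∈ H)
    have := mul_mem (mul_mem hg hy) (inv_mem hg)
    show ((1 : SL(2, F)), h * y * h⁻¹) ∈ H
    simpa using this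
  have hr : ∀ y, ((1 : SL(2, F)), y) ∈ H := fun y => (h2.symm ▸ Subgroup.mem_top y : y ∈ N₂)
  have hxN : x ∈ N₁ := (Subgroup.subset_closure (by simp) : (x, (1 : B)) ∈ H)
  have hgN : g ∈ N₁ := by
    have := mul_mem hg (inv_mem (hr h))
    show (g, (1 : B)) ∈ H
    simpa using this
  have h1 : N₁ = ⊤ := by
    rcases hmv N₁ (fun y hy => mul_mem (mul_mem hgN hy) (inv_mem hgN)) hxN with e | ⟨-, e, -⟩
    · exact e
    · rw [eq_top_iff, ← e, Subgroup.closure_le]
      rintro z (rfl | rfl)
      exacts [hxN, hgN]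
  rw [eq_top_iff]
  rintro ⟨a, b⟩ -
  have ha : (a, (1 : B)) ∈ H := (h1.symm ▸ Subgroup.mem_top a : a ∈ N₁)
  have := mul_mem ha (hr b)
  simpa using this

/-- Three generators for the square of `SL 2`. -/
theorem prod_three_sl2 : ∃ g₁ g₂ g₃ : SL(2, F) × SL(2, F),
    Subgroup.closure ({g₁, g₂, g₃} : Set (SL(2, F) × SL(2, F))) = ⊤ := by
  obtain ⟨x, g, hmv⟩ := sl2_mover (F := F)
  refine prod_three (u := x) (h := g) fun N hN hx => ?_
  rcases hmv N hN hx with e | ⟨hq, e, hnc⟩
  · exact e
  have hg : g ∈ Subgroup.normalizer (N : Set SL(2, F)) := by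
    rw [Subgroup.mem_normalizer_iff]
    intro y
    refine ⟨hN y, fun hy => ?_⟩
    let f : ↥N → ↥N := fun z => ⟨g * z.1 * g⁻¹, hN _ z.2⟩
    have hf : Function.Injective f := fun a b h =>
      Subtype.ext (mul_left_cancel (mul_right_cancel (congrArg Subtype.val h)))
    obtain ⟨z, hz⟩ := Finite.injective_iff_surjective.1 hf ⟨_, hy⟩
    rw [← mul_left_cancel (mul_right_cancel (congrArg Subtype.val hz))]
    exact z.2
  have : N.Normal := Subgroup.normalizer_eq_top_iff.1 (by
    rw [eq_top_iff, ← e, Subgroup.closure_le]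
    rintro z (rfl | rfl)
    exacts [Subgroup.le_normalizer hx, hg])
  exact normal_top (GL.SL_commutator_eq_top 2 le_rfl fun _ => GL.exists_sq_ne_one_of_four_le_card (by rwa [Nat.card_eq_fintype_card])) N hx hnc

/-- Three generators of `SL 2 × SL 3`. -/
theorem prod_three_sl3 : ∃ g₁ g₂ g₃ : SL(2, F) × SL(3, F),
    Subgroup.closure ({g₁, g₂, g₃} : Set (SL(2, F) × SL(3, F))) = ⊤ := by
  obtain ⟨u, g, -, -, h⟩ := Cfsg.Agent.S2278.result (F := F)
  refine prod_three (u := u) (h := g) fun N hN hu => ?_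
  rw [eq_top_iff, ← h, Subgroup.closure_le]
  rintro z (rfl | rfl)
  exacts [hu, hN u hu]

end Cfsg.Agent.OmegaPres
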