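import Cfsg.Agent.Lib.OmegaPres.Block
import Cfsg.Agent.Lib.OmegaPres.Kernel
import Cfsg.Agent.Lib.QForm.Std
import Cfsg.Agent.Lib.Forms.OmegaOrder

/-!
A short presentation of `Ω⁺` from one of `SL n`.
-/

set_option autoImplicit false

namespace Cfsg.Agent.OmegaPres

open Matrix SL2Presentation CurtisTits CurtisTits.DType CurtisTits.DModel
open Cfsg.Agent.MaxCl
open scoped MatrixGroups commutatorElement

variable {F : Type*} [Field F] [Fintype F] {m : ℕ}

theorem exists_presentation {k r c : ℕ} {R : Finset (FreeGroup (Fin k))} (hR : R.card ≤ r)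
    (eR : PresentedGroup (↑R : Set (FreeGroup (Fin k))) ≃* SpecialLinearGroup (Fin (m + 4)) F)
    (S : Finset (SL(2, F) × SpecialLinearGroup (Fin (m + 2)) F)) (hS : S.card ≤ c)
    (hSgen : Subgroup.closure (↑S : Set (SL(2, F) × SpecialLinearGroup (Fin (m + 2)) F)) = ⊤) :
    ∃ rels : Finset (FreeGroup (Fin (k + 1))), rels.card ≤ r + c + 4 ∧
      Nonempty (PresentedGroup (↑rels : Set (FreeGroup (Fin (k + 1)))) ≃*
        ↥(Cfsg.Omega F (Cfsg.quadFormPlus (m + 4) F))) := by
  classical
  have h21 : (ix 2 : Fin (m + 4)) ≠ ix 1 := ix_ne (by omega)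
  have h20 : (ix 2 : Fin (m + 4)) ≠ ix 0 := ix_ne (by omega)
  have h13 : (ix 1 : Fin (m + 4)) ≠ ix 3 := ix_ne (by omega)
  have hsur : Function.Surjective (fun x => eR (PresentedGroup.mk (↑R : Set (FreeGroup (Fin k))) x)) :=
    eR.surjective.comp (PresentedGroup.mk_surjective _)
  let sec : SpecialLinearGroup (Fin (m + 4)) F → FreeGroup (Fin k) := Function.surjInv hsur
  have hsec : ∀ A, eR (PresentedGroup.mk _ (sec A)) = A := Function.surjInv_eq hsur
  let ι : FreeGroup (Fin k) →* FreeGroup (Fin (k + 1)) := FreeGroup.map Fin.castSucc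
  let lf : SpecialLinearGroup (Fin (m + 4)) F → FreeGroup (Fin (k + 1)) := fun A => ι (sec A)
  let W : FreeGroup (Fin (k + 1)) := FreeGroup.of (Fin.last k)
  let a13 : FreeGroup (Fin (k + 1)) := lf (SpecialLinearGroup.transvection h13 (1 : F))
  let a20 : FreeGroup (Fin (k + 1)) := lf (SpecialLinearGroup.transvection h20 (1 : F))
  let blockRel : SL(2, F) × SpecialLinearGroup (Fin (m + 2)) F → FreeGroup (Fin (k + 1)) := fun g =>
    W * lf (bl g) * W⁻¹ * (lf (mu F m * bl g * (mu F m)⁻¹))⁻¹
  let N21 : FreeGroup (Fin (k + 1)) := lf (wSL h21 (1 : F))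
  let N20 : FreeGroup (Fin (k + 1)) := lf (wSL h20 (1 : F))
  let new : Finset (FreeGroup (Fin (k + 1))) :=
    S.image blockRel ∪ {W * W, ⁅a13, W * a20 * W⁻¹⁆, ⁅a20, W * a20 * W⁻¹⁆,
      N21 * W * N21⁻¹ * (N20 * N20 * N20 * (W * N20 * W⁻¹))⁻¹}
  let R' : Finset (FreeGroup (Fin (k + 1))) := R.image ι ∪ new
  refine ⟨R', ?_, ?_⟩
  · refine (Finset.card_union_le _ _).trans ?_
    have h1 := (Finset.card_image_le (s := R) (f := ι)).trans hR
    have h2 : new.card ≤ c + 4 := (Finset.card_union_le _ _).trans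
      (add_le_add (Finset.card_image_le.trans hS) Finset.card_le_four)
    omega
  set π : FreeGroup (Fin (k + 1)) →* PresentedGroup (↑R' : Set (FreeGroup (Fin (k + 1)))) :=
    PresentedGroup.mk _ with hπ
  have hnew : ∀ {x}, x ∈ new → π x = 1 := fun hx => PresentedGroup.one_of_mem (Finset.mem_union_right _ hx)
  have hold : ∀ x ∈ (↑R : Set (FreeGroup (Fin k))),
      FreeGroup.lift (fun i => π (FreeGroup.of (Fin.castSucc i))) x = 1 := fun x hx => by
    rw [show FreeGroup.lift (fun i => π (FreeGroup.of (Fin.castSucc i))) = π.comp ι from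
      FreeGroup.ext_hom _ _ fun i => by simp [ι]]
    exact PresentedGroup.one_of_mem (Finset.mem_union_left _ (Finset.mem_image_of_mem _ hx))
  let φ : SpecialLinearGroup (Fin (m + 4)) F →* PresentedGroup (↑R' : Set (FreeGroup (Fin (k + 1)))) :=
    (PresentedGroup.toGroup hold).comp eR.symm.toMonoidHom
  have hφlf : ∀ A, φ A = π (lf A) := fun A => by
    have e : eR.symm A = PresentedGroup.mk _ (sec A) := by rw [MulEquiv.symm_apply_eq, hsec]
    show PresentedGroup.toGroup hold (eR.symm A) = _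
    rw [e]
    exact DFunLike.congr_fun (FreeGroup.ext_hom ((PresentedGroup.toGroup hold).comp (PresentedGroup.mk _))
      (π.comp ι) fun i => by simp [ι]; rfl) (sec A)
  set w := π W with hw
  have rel : ∀ {x y : FreeGroup (Fin (k + 1))}, x * y⁻¹ ∈ new → π x = π y := fun h => by
    have := hnew h
    rwa [map_mul, map_inv, mul_inv_eq_one] at this
  have hblock : ∀ g, w * φ (bl g) * w⁻¹ = φ (mu F m * bl g * (mu F m)⁻¹) := by
    intro g
    have hg : g ∈ Subgroup.closure (↑S : Set (SL(2, F) × SpecialLinearGroup (Fin (m + 2)) F)) :=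
      hSgen ▸ Subgroup.mem_top g
    refine MonoidHom.eqOn_closure (f := (MulAut.conj w).toMonoidHom.comp (φ.comp bl))
      (g := φ.comp ((MulAut.conj (mu F m)).toMonoidHom.comp bl)) (fun g hg => ?_) hg
    show w * φ (bl g) * w⁻¹ = φ (mu F m * bl g * (mu F m)⁻¹)
    rw [hφlf, hφlf, hw, ← map_inv, ← map_mul, ← map_mul]
    exact rel (Finset.mem_union_left _ (Finset.mem_image_of_mem _ hg))
  obtain ⟨hC, hA, hA'⟩ := flipRel_of_blocks φ hblock
  have comm_of : ∀ {x y}, ⁅x, y⁆ ∈ new → Commute (π x) (π y) := fun h => by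
    have := hnew h
    rw [map_commutatorElement] at this
    exact commutatorElement_eq_one_iff_commute.1 this
  let D : Data F m (PresentedGroup (↑R' : Set (FreeGroup (Fin (k + 1))))) :=
    { φ := φ, w := w
      w2 := by
        rw [hw, ← map_mul]
        exact hnew (Finset.mem_union_right _ (by simp))
      hC := hC, hA := hA, hA' := hA'
      q1 := by
        rw [ofHom_x _ h13, ofHom_x _ h20, hφlf, hφlf, hw, ← map_inv, ← map_mul, ← map_mul]
        exact comm_of (Finset.mem_union_right _ (by simp [a13, a20]))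
      c1 := by
        rw [ofHom_x _ h20, hφlf, hw, ← map_inv, ← map_mul, ← map_mul]
        exact comm_of (Finset.mem_union_right _ (by simp [a20]))
      hu := by
        rw [← map_wSL φ h21, ← map_wSL φ h20, hφlf, hφlf, hw]
        simp only [← map_inv, ← map_mul]
        exact rel (Finset.mem_union_right _ (by simp [N21, N20])) }
  -- the map to the model
  let f : Fin (k + 1) → GL (SIdx (m + 4)) F :=
    Fin.lastCases (flipGL F m) fun i => emb (eR (PresentedGroup.of i))
  have hlf : ∀ A, FreeGroup.lift f (lf A) = emb A := fun A => by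
    have h := DFunLike.congr_fun (FreeGroup.ext_hom ((FreeGroup.lift f).comp ι)
      ((emb.comp eR.toMonoidHom).comp (PresentedGroup.mk _)) fun i => by simp [ι, f]; rfl) (sec A)
    show (FreeGroup.lift f).comp ι (sec A) = _
    rw [h]
    show emb (eR (PresentedGroup.mk _ (sec A))) = _
    rw [hsec]
  have hlW : FreeGroup.lift f W = flipGL F m := by simp [W, f]
  have fx : ∀ {p q : Fin (m + 4)} (h : p ≠ q) (t : F),
      flipGL F m * emb (SpecialLinearGroup.transvection h t) * (flipGL F m)⁻¹ =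
        E (flipPerm m (.inl p)) (flipPerm m (.inl q)) t := fun {p q} h t => by
    rw [emb_T h, flip_E (a := Sum.inl p) (b := Sum.inl q) h]
  have hf : ∀ x ∈ (↑R' : Set (FreeGroup (Fin (k + 1)))), FreeGroup.lift f x = 1 := by
    intro x hx
    simp only [R', new, Finset.coe_union, Finset.coe_image, Finset.coe_insert, Finset.coe_singleton,
      Set.mem_union, Set.mem_image, Set.mem_insert_iff, Set.mem_singleton_iff] at hx
    rcases hx with ⟨y, hy, rfl⟩ | ⟨g, hg, rfl⟩ | rfl | rfl | rfl | rfl
    · have h := DFunLike.congr_fun (FreeGroup.ext_hom ((FreeGroup.lift f).comp ι)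
        ((emb.comp eR.toMonoidHom).comp (PresentedGroup.mk _)) fun i => by simp [ι, f]; rfl) y
      simp only [MonoidHom.comp_apply] at h
      rw [h, PresentedGroup.one_of_mem hy, map_one, map_one]
    · simp only [blockRel, map_mul, map_inv, hlf, hlW]
      rw [blocks_of_flipRel (emb (F := F) (n := m + 4)) flipRel_flip g, map_mul, map_mul, map_inv, mul_inv_eq_one]
    · rw [map_mul, hlW, flip_sq]
    · simp only [map_commutatorElement, map_mul, map_inv, a13, a20, hlf, hlW]
      rw [commutatorElement_eq_one_iff_commute, fx h20, emb_T h13]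
      refine E_comm h13 ?_ ?_ ?_ ?_ ?_ 1 1 <;>
        simp [flip_inl, ng, lv, Fin.ext_iff]
    · simp only [map_commutatorElement, map_mul, map_inv, a20, hlf, hlW]
      rw [commutatorElement_eq_one_iff_commute, fx h20, emb_T h20]
      have e2 : flipPerm m (.inl (ix 2)) = .inl (ix 2) := by rw [flip_inl]; simp [Fin.ext_iff]
      have e0 : flipPerm m (.inl (ix 0)) = ng (.inl (ix 0)) := by rw [flip_inl, if_pos (Or.inl rfl)]; rfl
      rw [e2, e0]
      exact E_comm2 (a := Sum.inl (ix 2)) (b := Sum.inl (ix 0)) h20 1 1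
    · simp only [map_mul, map_inv, N21, N20, hlf, hlW, map_wSL]
      rw [flip_hu, mul_inv_eq_one]
  let θ := PresentedGroup.toGroup hf
  have hθ : ∀ x, θ (π x) = FreeGroup.lift f x := fun x =>
    DFunLike.congr_fun (FreeGroup.ext_hom (θ.comp π) (FreeGroup.lift f) fun i => by
      rw [MonoidHom.comp_apply, FreeGroup.lift_apply_of]; exact PresentedGroup.toGroup.of hf) x
  have hθφ : ∀ A, θ (D.φ A) = emb A := fun A => by
    show θ (φ A) = _
    rw [hφlf, hθ, hlf]
  have hθw : θ D.w = flipGL F m := by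
    show θ w = _
    rw [hw, hθ, hlW]
  have hgen : D.φ.range ⊔ Subgroup.closure {D.w} = ⊤ := by
    rw [eq_top_iff, ← PresentedGroup.closure_range_of, Subgroup.closure_le]
    rintro _ ⟨i, rfl⟩
    induction i using Fin.lastCases with
    | last => exact Subgroup.mem_sup_right (Subgroup.subset_closure rfl)
    | cast i =>
      refine Subgroup.mem_sup_left ⟨eR (PresentedGroup.of i), ?_⟩
      show PresentedGroup.toGroup hold (eR.symm (eR (PresentedGroup.of i))) = _
      rw [eR.symm_apply_apply, PresentedGroup.toGroup.of]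
      rfl
  obtain ⟨hinj, hran⟩ := recognition D θ hθφ hθw hgen
  have h2 : Cfsg.Geo.omegaGL (Cfsg.quadFormPlus (m + 4) F) = θ.range := by
    rw [hran, ← QForm.coe_plusForm]
  let e : ↥(Cfsg.Omega F (Cfsg.quadFormPlus (m + 4) F)) ≃* ↥θ.range :=
    (Subgroup.equivMapOfInjective _ _ Subtype.coe_injective).trans (MulEquiv.subgroupCongr h2)
  exact ⟨(MonoidHom.ofInjective hinj).trans e.symm⟩

/-- The centre of `Ω⁺` is the normal closure of one element. -/
theorem center_eq_normalClosure {n : ℕ} (hn : 3 ≤ n) :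
    ∃ z : ↥(Cfsg.Omega F (Cfsg.quadFormPlus n F)),
      Subgroup.center ↥(Cfsg.Omega F (Cfsg.quadFormPlus n F)) = Subgroup.normalClosure {z} := by
  classical
  have hm : ∀ g : ↥(Cfsg.Omega F (Cfsg.quadFormPlus n F)), g ∈ Subgroup.center _ → g ≠ 1 →
      ((g.1 : GL (Fin n ⊕ Fin n) F) : Matrix (Fin n ⊕ Fin n) (Fin n ⊕ Fin n) F) = -1 := by
    rw [← QForm.coe_plusForm]
    intro g hg hg1
    obtain ⟨a, ha, e⟩ := Cfsg.Agent.Forms.omega_center_matrix (QForm.plusForm F n) (QForm.plusForm_nondegenerate F n)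
      (by simp; omega) g hg
    rcases mul_self_eq_one_iff.1 ha with rfl | rfl
    · rw [one_smul] at e
      exact absurd (Subtype.ext (Subtype.ext (Units.ext e))) hg1
    · rw [e, neg_smul, one_smul]
  by_cases h : ∃ g ∈ Subgroup.center ↥(Cfsg.Omega F (Cfsg.quadFormPlus n F)), g ≠ 1
  · obtain ⟨z, hz, hz1⟩ := h
    refine ⟨z, le_antisymm (fun g hg => ?_) (Subgroup.normalClosure_le_normal (Set.singleton_subset_iff.2 hz))⟩
    by_cases hg1 : g = 1
    · rw [hg1]; exact one_mem _
    · rw [show g = z from Subtype.ext (Subtype.ext (Units.ext ((hm g hg hg1).trans (hm z hz hz1).symm)))]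
      exact Subgroup.subset_normalClosure rfl
  · refine ⟨1, le_antisymm (fun g hg => ?_) (Subgroup.normalClosure_le_normal (by simp))⟩
    by_cases hg1 : g = 1
    · rw [hg1]; exact one_mem _
    · exact absurd ⟨g, hg, hg1⟩ h

end Cfsg.Agent.OmegaPres
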