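import Cfsg.Agent.Lib.CurtisTits.Hom

/-!
Weyl elements and coroot elements of `SL n`, and spreading a commutation along a torus.
-/

set_option autoImplicit false

namespace Cfsg.Agent.OmegaPres

open Matrix SL2Presentation CurtisTits

variable {F : Type*} [Field F] {n : ℕ}

/-- The diagonal of a coroot element. -/
def cc (i j : Fin n) (a : F) (p : Fin n) : F := if p = i then a else if p = j then a⁻¹ else 1

theorem prod_cc {i j : Fin n} (h : i ≠ j) {a : F} (ha : a ≠ 0) : ∏ p, cc i j a p = 1 := by
  rw [Finset.prod_eq_mul i j h (fun c _ hc => by simp [cc, hc.1, hc.2]) (by simp) (by simp)]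
  simp [cc, h.symm, ha]

/-- The coroot element. -/
def hEl {i j : Fin n} (h : i ≠ j) (a : Fˣ) : SpecialLinearGroup (Fin n) F :=
  ⟨diagonal (cc i j (a : F)), by rw [det_diagonal, prod_cc h a.ne_zero]⟩

theorem hEl_coe {i j : Fin n} (h : i ≠ j) (a : Fˣ) : (hEl h a).1 = diagonal (cc i j (a : F)) := rfl

theorem hEl_mul {i j : Fin n} (h : i ≠ j) (a b : Fˣ) : hEl h (a * b) = hEl h a * hEl h b := by
  apply SpecialLinearGroup.coeMonoidHom_injective
  simp only [map_mul, SpecialLinearGroup.coeMonoidHom_apply]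
  rw [hEl_coe, hEl_coe, hEl_coe, diagonal_mul_diagonal]
  congr 1
  funext p
  simp only [cc, Units.val_mul]
  split_ifs
  · rfl
  · exact mul_inv _ _
  · exact (one_mul 1).symm

theorem hEl_conj {i j : Fin n} (h : i ≠ j) (a : Fˣ) {p q : Fin n} (hpq : p ≠ q) (u : F) :
    hEl h a * SpecialLinearGroup.transvection hpq u * (hEl h a)⁻¹ =
      SpecialLinearGroup.transvection hpq (cc i j (a : F) p / cc i j (a : F) q * u) := by
  have hne : ∀ k, cc i j (a : F) k ≠ 0 := fun k => by simp only [cc]; split_ifs <;> simp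
  rw [mul_inv_eq_iff_eq_mul]
  apply SpecialLinearGroup.coeMonoidHom_injective
  simp only [map_mul, SpecialLinearGroup.coeMonoidHom_apply]
  rw [hEl_coe, SpecialLinearGroup.transvection_coe,
    SpecialLinearGroup.transvection_coe, mul_add, add_mul, mul_one, one_mul]
  congr 1
  ext r s
  rw [diagonal_mul, mul_diagonal]
  by_cases hrs : p = r ∧ q = s
  · obtain ⟨rfl, rfl⟩ := hrs
    simp only [single_apply_same]
    field_simp [hne q]
  · simp [Matrix.single_apply, hrs]

theorem w_coe {i j : Fin n} (h : i ≠ j) {t : F} (ht : t ≠ 0) :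
    (SpecialLinearGroup.transvection h t * SpecialLinearGroup.transvection h.symm (-t⁻¹) *
      SpecialLinearGroup.transvection h t).1 =
      1 - Matrix.single i i 1 - Matrix.single j j 1 + Matrix.single i j t + Matrix.single j i (-t⁻¹) := by
  rw [← SpecialLinearGroup.coeMonoidHom_apply, map_mul, map_mul]
  simp only [SpecialLinearGroup.coeMonoidHom_apply, SpecialLinearGroup.transvection_coe, mul_add, add_mul, one_mul, mul_one,
    single_mul_single_same, single_mul_single_of_ne _ _ _ _ h, single_mul_single_of_ne _ _ _ _ h.symm, zero_mul,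
    mul_zero, add_zero, zero_add]
  rw [show t * -t⁻¹ = -1 by field_simp, show -t⁻¹ * t = -1 by field_simp,
    show (-1 : F) * t = -t by ring]
  have e : ∀ (a b : Fin n) (c : F), Matrix.single a b (-c) = -Matrix.single a b c := fun a b c => by
    ext x y; simp only [Matrix.single_apply, Matrix.neg_apply]; split_ifs <;> simp
  simp only [e]
  abel

theorem w_mul_w {i j : Fin n} (h : i ≠ j) (t u : Fˣ) :
    (SpecialLinearGroup.transvection h (t : F) * SpecialLinearGroup.transvection h.symm (-(t : F)⁻¹) *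
        SpecialLinearGroup.transvection h (t : F)) *
      (SpecialLinearGroup.transvection h (u : F) * SpecialLinearGroup.transvection h.symm (-(u : F)⁻¹) *
        SpecialLinearGroup.transvection h (u : F)) = hEl h (-t / u) := by
  apply SpecialLinearGroup.coeMonoidHom_injective
  rw [map_mul]
  simp only [SpecialLinearGroup.coeMonoidHom_apply]
  rw [w_coe h t.ne_zero, w_coe h u.ne_zero, hEl_coe]
  ext r s
  rw [Matrix.mul_apply]
  have key : ∀ k, ((1 - Matrix.single i i 1 - Matrix.single j j 1 +
      Matrix.single i j (t : F) + Matrix.single j i (-(t : F)⁻¹) : Matrix (Fin n) (Fin n) F)) r k =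
      if r = i then (if k = j then (t : F) else 0) else if r = j then (if k = i then -(t : F)⁻¹ else 0)
        else if k = r then 1 else 0 := by
    intro k
    simp only [Matrix.add_apply, Matrix.sub_apply, Matrix.one_apply, Matrix.single_apply]
    by_cases h1 : r = i <;> by_cases h2 : r = j <;> by_cases h3 : k = i <;> by_cases h4 : k = j <;>
      by_cases h5 : r = k <;> simp_all [eq_comm]
  simp only [key]
  by_cases h1 : r = i
  · subst h1
    simp only [if_true]
    rw [Finset.sum_eq_single j (fun k _ hk => by simp [hk]) (by simp)]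
    by_cases h3 : s = r <;> by_cases h4 : s = j <;>
      simp_all [Matrix.single_apply, Matrix.one_apply, cc, diagonal, eq_comm] <;> field_simp
  by_cases h2 : r = j
  · subst h2
    simp only [if_neg h1, if_true]
    rw [Finset.sum_eq_single i (fun k _ hk => by simp [hk]) (by simp)]
    by_cases h3 : s = r <;> by_cases h4 : s = i <;>
      simp_all [Matrix.single_apply, Matrix.one_apply, cc, diagonal, eq_comm] <;> field_simp
  simp only [if_neg h1, if_neg h2]
  rw [Finset.sum_eq_single r (fun k _ hk => by simp [hk]) (by simp)]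
  by_cases h3 : s = r <;> by_cases h4 : s = j <;> by_cases h5 : s = i <;>
    simp_all [Matrix.single_apply, Matrix.one_apply, cc, diagonal, eq_comm]

variable {G : Type*} [Group G]

theorem ofHom_w_mul (φ : SpecialLinearGroup (Fin n) F →* G) {i j : Fin n} (h : i ≠ j) (t u : Fˣ) :
    (ofHom φ).w i j (t : F) * (ofHom φ).w i j (u : F) = φ (hEl h (-t / u)) := by
  simp only [Rels.w, ofHom_x φ h, ofHom_x φ h.symm, ← map_mul, w_mul_w h t u]

theorem hEl_conj_x (φ : SpecialLinearGroup (Fin n) F →* G) {i j : Fin n} (h : i ≠ j) (a : Fˣ) {p q : Fin n}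
    (hpq : p ≠ q) (u : F) :
    φ (hEl h a) * (ofHom φ).x p q u * (φ (hEl h a))⁻¹ =
      (ofHom φ).x p q (cc i j (a : F) p / cc i j (a : F) q * u) := by
  rw [ofHom_x φ hpq, ofHom_x φ hpq, ← map_inv, ← map_mul, ← map_mul, hEl_conj h a hpq]

theorem exists_sq_add_sq [Finite F] (x : F) : ∃ b c : F, x = b ^ 2 + c ^ 2 := by
  have := Fintype.ofFinite F
  by_cases h2 : ringChar F = 2
  · obtain ⟨b, rfl⟩ := FiniteField.isSquare_of_char_two h2 x
    exact ⟨b, 0, by ring⟩
  · obtain ⟨b, c, hbc⟩ := FiniteField.exists_root_sum_quadratic (R := F)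
      (f := Polynomial.X ^ 2) (g := Polynomial.X ^ 2 - Polynomial.C x) (Polynomial.degree_X_pow 2)
      (Polynomial.degree_X_pow_sub_C (by decide) _) (FiniteField.odd_card_of_char_ne_two h2)
    simp only [Polynomial.eval_pow, Polynomial.eval_X, Polynomial.eval_sub, Polynomial.eval_C] at hbc
    exact ⟨b, c, by linear_combination -hbc⟩

/-- A single commutation spreads along a torus which scales by squares. -/
theorem spread [Finite F] {f g : F → G} (hf : ∀ s t, f (s + t) = f s * f t) (hg : ∀ s t, g (s + t) = g s * g t)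
    (k : Fˣ → Fˣ) (hs : ∀ x c : Fˣ, ∃ τ : G, τ * f 1 * τ⁻¹ = f x ∧ τ * g 1 * τ⁻¹ = g ((k x : F) * (c : F) ^ 2))
    (h1 : Commute (f 1) (g 1)) : ∀ s t, Commute (f s) (g t) := by
  have f0 : f 0 = 1 := psi_zero hf
  have g0 : g 0 = 1 := psi_zero hg
  intro s t
  rcases eq_or_ne s 0 with rfl | hs0
  · rw [f0]; exact Commute.one_left _
  set x := Units.mk0 s hs0 with hx
  have key : ∀ c : F, Commute (f s) (g ((k x : F) * c ^ 2)) := by
    intro c
    rcases eq_or_ne c 0 with rfl | hc
    · simp [g0]
    obtain ⟨τ, e1, e2⟩ := hs x (Units.mk0 c hc)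
    rw [hx, Units.val_mk0] at e1
    rw [Units.val_mk0] at e2
    rw [← e1, ← e2]
    exact (Commute.conj_iff τ).2 h1
  obtain ⟨b, c, hbc⟩ := exists_sq_add_sq ((k x : F)⁻¹ * t)
  rw [show t = (k x : F) * b ^ 2 + (k x : F) * c ^ 2 by
    rw [← mul_add, ← hbc, mul_inv_cancel_left₀ (k x).ne_zero], hg]
  exact (key b).mul_right (key c)

end Cfsg.Agent.OmegaPres
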