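import Cfsg.Agent.Lib.BoundedPres.PSL

/-!
Two generators of `SL n` with control on a power of the second one.
-/

set_option autoImplicit false
set_option linter.unusedSectionVars false

namespace Cfsg.Agent.OmegaPres

open Equiv Matrix SL2Presentation BoundedPres
open scoped MatrixGroups

variable {F : Type*} [Field F] [Fintype F]

open Fin.NatCast in
theorem two_gen_pow (n : ℕ) :
    ∃ a b : SpecialLinearGroup (Fin (n + 4)) F,
      Subgroup.closure ({a, b} : Set (SpecialLinearGroup (Fin (n + 4)) F)) = ⊤ ∧
        ∀ k : ℕ, b ^ k ∈ Subgroup.center (SpecialLinearGroup (Fin (n + 4)) F) →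
          (k : F) = 0 ∧ ∀ c : Fˣ, c ^ k = 1 := by
  classical
  obtain ⟨ω, hω⟩ := IsCyclic.exists_generator (α := Fˣ)
  set σ := finRotate (n + 4)
  set ε : F := (((Perm.sign σ : ℤˣ) : ℤ) : F) with hε
  have hεε : ε * ε = 1 := by
    rw [hε, ← Int.cast_mul, ← Units.val_mul, Int.units_mul_self]; simp
  set s : Fin (n + 4) → F := Function.update 1 0 ε with hs
  have hs0 : ∀ x, s x ≠ 0 := fun x => by
    rcases eq_or_ne x 0 with rfl | h
    · rw [hs, Function.update_self]; exact left_ne_zero_of_mul_eq_one hεε
    · rw [hs, Function.update_of_ne h]; simp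
  let w : SpecialLinearGroup (Fin (n + 4)) F := ⟨σ⁻¹.permMatrix F * diagonal s, by
    rw [det_mul, det_permutation, det_diagonal, hs, Finset.prod_update_of_mem (Finset.mem_univ _), map_inv,
      Int.units_inv_eq_self]
    simpa [hε] using hεε⟩
  have hw : ∀ x y, w.1 x y = if x = σ y then s y else 0 := fun x y => by
    show (σ⁻¹.permMatrix F * diagonal s) x y = _
    rw [mul_diagonal, Equiv.Perm.permMatrix, PEquiv.toMatrix_apply]
    by_cases h : x = σ y
    · subst h; simp
    · have : σ⁻¹ x ≠ y := fun e => h (by rw [← e]; simp)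
      simp [h, Perm.inv_def] at this ⊢
      simp [this]
  set d : Fin (n + 4) → Fˣ := Function.update (Function.update 1 2 ω) 3 ω⁻¹ with hd
  have h01 : (0 : Fin (n + 4)) ≠ 1 := by simp
  have hv0 : ((0 : Fin (n + 4)) : ℕ) = 0 := rfl
  have hv1 : ((1 : Fin (n + 4)) : ℕ) = 1 := Nat.mod_eq_of_lt (show 1 < n + 4 by omega)
  have hn2 : ((2 : Fin (n + 4)) : ℕ) = 2 := Nat.mod_eq_of_lt (show 2 < n + 4 by omega)
  have hn3 : ((3 : Fin (n + 4)) : ℕ) = 3 := Nat.mod_eq_of_lt (show 3 < n + 4 by omega)
  have h23 : (2 : Fin (n + 4)) ≠ 3 := fun h => by have := congrArg Fin.val h; omega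
  let D : SpecialLinearGroup (Fin (n + 4)) F := ⟨diagonal fun x => (d x : F), by
    rw [det_diagonal, ← Units.coe_prod, hd, Finset.prod_update_of_mem (Finset.mem_univ _),
      Finset.prod_update_of_mem (by simpa using h23)]
    simp⟩
  let tv : ∀ (i j : Fin (n + 4)), i ≠ j → F → SpecialLinearGroup (Fin (n + 4)) F :=
    fun i j h t => SpecialLinearGroup.transvection h t
  have htv : ∀ i j (h : i ≠ j) t, (tv i j h t).1 = 1 + Matrix.single i j t := fun i j h t => rfl
  have htv_mul : ∀ i j (h : i ≠ j) t u, tv i j h t * tv i j h u = tv i j h (t + u) := fun i j h t u => by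
    refine Subtype.ext ?_
    show _ * _ = _
    rw [htv, htv, htv, single_add]
    simp [mul_add, add_mul, single_mul_single_of_ne _ _ _ _ h.symm, add_assoc]
  have hd0 : d 0 = 1 := by
    rw [hd, Function.update_of_ne (fun h => by have := congrArg Fin.val h; omega),
      Function.update_of_ne (fun h => by have := congrArg Fin.val h; omega)]
    rfl
  have hd1 : d 1 = 1 := by
    rw [hd, Function.update_of_ne (fun h => by have := congrArg Fin.val h; omega),
      Function.update_of_ne (fun h => by have := congrArg Fin.val h; omega)]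
    rfl
  have hd2 : d 2 = ω := by rw [hd, Function.update_of_ne h23, Function.update_self]
  have hDconj : ∀ i j (h : i ≠ j) t u, (d i : F) * t = u * (d j : F) →
      D * tv i j h t = tv i j h u * D := fun i j h t u he => by
    refine Subtype.ext ?_
    show diagonal _ * _ = _ * diagonal _
    rw [htv, htv]
    ext x y
    rw [diagonal_mul, mul_diagonal]
    rcases eq_or_ne x y with rfl | hxy
    · have : Matrix.single i j t x x = 0 ∧ Matrix.single i j u x x = 0 := by
        constructor <;> rw [Matrix.single_apply, if_neg] <;> rintro ⟨rfl, rfl⟩ <;> exact h rfl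
      simp [this.1, this.2, mul_comm]
    · rw [Matrix.add_apply, Matrix.add_apply, Matrix.one_apply_ne hxy, zero_add, zero_add,
        Matrix.single_apply, Matrix.single_apply]
      split_ifs with hc
      · obtain ⟨rfl, rfl⟩ := hc; exact he
      · simp
  set x₁ := tv 0 1 h01 1
  refine ⟨w, x₁ * D, ?_, fun k hk => ?_⟩
  swap
  · have hc : Commute x₁ D := (hDconj 0 1 h01 1 1 (by rw [hd0, hd1]; ring)).symm
    have hx : ∀ k : ℕ, x₁ ^ k = tv 0 1 h01 k := by
      intro k
      induction k with
      | zero => refine Subtype.ext ?_; rw [htv]; simp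
      | succ k ih => rw [pow_succ, ih, htv_mul, Nat.cast_succ]
    have hDk : ∀ k : ℕ, (D ^ k).1 = diagonal fun x => ((d x : F)) ^ k := by
      intro k
      induction k with
      | zero => simp
      | succ k ih =>
        rw [pow_succ]
        show (D ^ k).1 * diagonal _ = _
        rw [ih, diagonal_mul_diagonal]
        simp [pow_succ]
    obtain ⟨r, -, hr⟩ := Matrix.SpecialLinearGroup.mem_center_iff.1 hk
    rw [hc.mul_pow, hx] at hr
    have hval : (tv 0 1 h01 (k : F) * D ^ k).1 = (1 + Matrix.single 0 1 (k : F)) * diagonal fun x => ((d x : F)) ^ k := by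
      show _ * _ = _
      rw [htv, hDk]
    have e01 := congrFun (congrFun hr 0) 1
    have e00 := congrFun (congrFun hr 0) 0
    have e22 := congrFun (congrFun hr 2) 2
    have h20 : (2 : Fin (n + 4)) ≠ 0 := fun h => by have := congrArg Fin.val h; omega
    simp only [hval, mul_diagonal, Matrix.add_apply, Matrix.one_apply_eq, Matrix.one_apply_ne h01,
      Matrix.single_apply, scalar_apply, diagonal_apply_ne _ h01, diagonal_apply_eq, hd0, hd1, hd2,
      h01.symm, h20.symm, and_self, and_false, false_and, if_true, if_false, Units.val_one, one_pow, mul_one,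
      zero_add, add_zero, one_mul] at e01 e00 e22
    refine ⟨e01.symm, fun c => ?_⟩
    obtain ⟨j, rfl⟩ := hω c
    have hk1 : ω ^ k = 1 := Units.ext (by rw [Units.val_pow_eq_pow_val, Units.val_one, ← e22, ← e00])
    rw [← zpow_natCast, ← _root_.zpow_mul, mul_comm, _root_.zpow_mul, zpow_natCast, hk1, _root_.one_zpow]
  set H := Subgroup.closure ({w, x₁ * D} : Set (SpecialLinearGroup (Fin (n + 4)) F))
  have hwH : w ∈ H := Subgroup.subset_closure (Or.inl rfl)
  have hxH : x₁ ∈ H := by
    have hc : Commute x₁ D := (hDconj 0 1 h01 1 1 (by rw [hd0, hd1]; ring)).symm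
    have hDk : ∀ k : ℕ, (D ^ k).1 = diagonal fun x => ((d x : F)) ^ k := by
      intro k
      induction k with
      | zero => simp
      | succ k ih =>
        rw [pow_succ]
        show (D ^ k).1 * diagonal _ = _
        rw [ih, diagonal_mul_diagonal]
        simp [pow_succ]
    have hDq : D ^ (Fintype.card F - 1) = 1 := by
      refine Subtype.ext ((hDk _).trans ?_)
      simp [FiniteField.pow_card_sub_one_eq_one _ (Units.ne_zero _)]
    have hxk : ∀ k : ℕ, x₁ ^ k = tv 0 1 h01 k := by
      intro k
      induction k with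
      | zero => refine Subtype.ext ?_; rw [htv]; simp
      | succ k ih => rw [pow_succ, ih, htv_mul, Nat.cast_succ]
    have hxq : x₁ ^ Fintype.card F = 1 := by
      rw [hxk, FiniteField.cast_card_eq_zero]; refine Subtype.ext ?_; rw [htv]; simp
    have hm := H.pow_mem (Subgroup.subset_closure (Or.inr rfl) : x₁ * D ∈ H) (Fintype.card F - 1)
    rw [hc.mul_pow, hDq, mul_one, eq_inv_of_mul_eq_one_left
      (show x₁ ^ (Fintype.card F - 1) * x₁ = 1 by rw [← pow_succ, Nat.sub_add_cancel Fintype.card_pos, hxq])] at hm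
    exact (Subgroup.inv_mem_iff _).1 hm
  have hDH : D ∈ H := by
    have := H.mul_mem (H.inv_mem hxH) (Subgroup.subset_closure (Or.inr rfl) : x₁ * D ∈ H)
    rwa [inv_mul_cancel_left] at this
  let S : Fin (n + 4) → Fin (n + 4) → Set F := fun i j => {t | ∀ h : i ≠ j, tv i j h t ∈ H}
  have hstep : ∀ i j (h : i ≠ j) t, t ∈ S i j →
      t * s i * (s j)⁻¹ ∈ S (σ i) (σ j) := fun i j h t ht' h' => by
    have ht := ht' h
    have e : w * tv i j h t = tv (σ i) (σ j) (σ.injective.ne h) (t * s i * (s j)⁻¹) * w := by
      refine Subtype.ext ?_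
      show w.1 * _ = _ * w.1
      rw [htv, htv, mul_add, mul_one, add_mul, one_mul]
      congr 1
      ext x y
      rw [Matrix.mul_apply, Matrix.mul_apply,
        Finset.sum_eq_single i (fun z _ hz => by simp [Ne.symm hz]) (by simp),
        Finset.sum_eq_single (σ j) (fun z _ hz => by simp [Ne.symm hz]) (by simp), hw, hw]
      simp only [Matrix.single_apply, σ.injective.eq_iff]
      by_cases hxa : x = σ i <;> by_cases hyb : y = j <;> simp [hxa, hyb, Ne.symm]
      · field_simp [hs0 j]
    have := H.mul_mem (H.mul_mem hwH ht) (H.inv_mem hwH)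
    rwa [e, mul_inv_cancel_right] at this
  have hsucc : ∀ i : Fin (n + 4), σ i = i + 1 := fun i => finRotate_apply ..
  have hne : ∀ i : Fin (n + 4), i ≠ i + 1 := fun i h => by simp at h
  have h12 : (1 : Fin (n + 4)) ≠ 1 + 1 := hne 1
  -- all of the root group (1, 2)
  have hfull : ∀ t, t ∈ S 1 (1 + 1) := by
    have hbase : ∃ t ≠ 0, t ∈ S 1 (1 + 1) := by
      refine ⟨1 * s 0 * (s 1)⁻¹, by simp [hs0], ?_⟩
      have := hstep 0 1 h01 1 (fun _ => hxH)
      rwa [hsucc, hsucc, zero_add] at this
    have hscale : ∀ t, t ∈ S 1 (1 + 1) → ((ω⁻¹ : Fˣ) : F) * t ∈ S 1 (1 + 1) := fun t ht' h' => by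
      have ht := ht' h'
      have e := hDconj 1 (1 + 1) h12 t ((ω⁻¹ : Fˣ) * t) (by
        rw [hd1, show (1 : Fin (n + 4)) + 1 = 2 from Fin.ext (by
          rw [Fin.val_add, hv1, hn2]; exact Nat.mod_eq_of_lt (by omega)), hd2, Units.val_one, one_mul,
          mul_comm, ← mul_assoc, ← Units.val_mul, mul_inv_cancel, Units.val_one, one_mul])
      have := H.mul_mem (H.mul_mem hDH ht) (H.inv_mem hDH)
      rwa [e, mul_inv_cancel_right] at this
    obtain ⟨t₀, ht₀, ht₀S⟩ := hbase
    intro t
    rcases eq_or_ne t 0 with rfl | ht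
    · intro _
      show tv _ _ _ 0 ∈ H
      rw [show tv (1 : Fin (n + 4)) (1 + 1) h12 0 = 1 by refine Subtype.ext ?_; rw [htv]; simp]
      exact one_mem _
    · obtain ⟨k, hk⟩ := mem_powers_iff_mem_zpowers.2
        (show Units.mk0 (t / t₀) (div_ne_zero ht ht₀) ∈ Subgroup.zpowers ω⁻¹ by
          rw [Subgroup.zpowers_inv]; exact hω _)
      have hall : ∀ k : ℕ, ((ω⁻¹ ^ k : Fˣ) : F) * t₀ ∈ S 1 (1 + 1) := by
        intro k
        induction k with
        | zero => simpa using ht₀S
        | succ k ih =>
          have := hscale _ ih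
          rwa [← mul_assoc, ← Units.val_mul, ← pow_succ'] at this
      have := hall k
      simp only at hk
      rwa [hk, Units.val_mk0, div_mul_cancel₀ _ ht₀] at this
  have hadj : ∀ (i : Fin (n + 4)) t, tv i (i + 1) (hne i) t ∈ H := by
    have : ∀ (l : ℕ) t, t ∈ S (1 + (l : Fin (n + 4))) (1 + (l : Fin (n + 4)) + 1) := by
      intro l
      induction l with
      | zero => simpa only [Nat.cast_zero, add_zero] using hfull
      | succ l ih =>
        intro t
        set i := (1 : Fin (n + 4)) + (l : Fin (n + 4)) with hi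
        have := hstep i (i + 1) (hne i) (t * s (i + 1) * (s i)⁻¹) (ih _)
        rw [show t * s (i + 1) * (s i)⁻¹ * s i * (s (i + 1))⁻¹ = t by field_simp [hs0], hsucc, hsucc] at this
        rwa [Nat.cast_succ, ← add_assoc, ← hi]
    intro i t
    have h := this ((i - 1 : Fin (n + 4)) : ℕ) t
    rw [show (1 : Fin (n + 4)) + (((i - 1 : Fin (n + 4)) : ℕ) : Fin (n + 4)) = i by
      rw [Fin.cast_val_eq_self]; abel] at h
    exact h (hne i)
  refine GL.SL_eq_top_of_transvection_mem fun i j hij t => ?_
  have hall : ∀ (l : ℕ) (i j : Fin (n + 4)) (h : i ≠ j), j = i + (l : Fin (n + 4)) → l < n + 4 →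
      ∀ t, tv i j h t ∈ H := by
    intro l
    induction l with
    | zero => intro i j h he _; exact absurd (by simpa using he) h.symm
    | succ l ih =>
      intro i j h he hl t
      rcases Nat.eq_zero_or_pos l with rfl | hl0
      · rw [zero_add, Nat.cast_one] at he
        subst he
        exact hadj i t
      · set k := i + (l : Fin (n + 4))
        have hik : i ≠ k := fun e => by
          have e' : ((l : Fin (n + 4)) : ℕ) = 0 := by
            rw [left_eq_add.1 e]; rfl
          rw [Fin.val_natCast, Nat.mod_eq_of_lt (by omega)] at e'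
          omega
        have hkj : j = k + 1 := by rw [he, Nat.cast_succ, ← add_assoc]
        subst hkj
        have e : tv i k hik t * tv k (k + 1) (hne k) 1 * (tv i k hik t)⁻¹ * (tv k (k + 1) (hne k) 1)⁻¹ =
            tv i (k + 1) h t := by
          rw [mul_inv_eq_iff_eq_mul, mul_inv_eq_iff_eq_mul]
          refine Subtype.ext ?_
          show _ * _ = _ * _ * _
          simp only [htv, mul_add, add_mul, one_mul, mul_one, single_mul_single_same,
            single_mul_single_of_ne _ _ _ _ (hne k).symm, single_mul_single_of_ne _ _ _ _ hik.symm,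
            single_mul_single_of_ne _ _ _ _ h.symm, Matrix.zero_mul, add_zero, zero_add]
          abel
        rw [← e]
        exact mul_mem (mul_mem (mul_mem (ih i k hik rfl (by omega) t) (hadj k 1))
          (inv_mem (ih i k hik rfl (by omega) t))) (inv_mem (hadj k 1))
  exact hall ((j - i : Fin (n + 4)) : ℕ) i j hij (by rw [Fin.cast_val_eq_self]; abel) (j - i).isLt t

end Cfsg.Agent.OmegaPres
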